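import Mathlib

/-!
Non-degenerate alternating pairings on finite groups of prime exponent: the order is a square,
and an automorphism of prime order moves a non-degenerate piece.
-/

namespace Cfsg.Agent.Huppert69

/-- A non-degenerate alternating pairing on a group of exponent `s` with cyclic values. -/
structure IsPairing {W M : Type*} [CommGroup W] [CommGroup M] (s : ℕ) (c : W → W → M) : Prop where
  pow_eq_one : ∀ w : W, w ^ s = 1
  map_mul_left : ∀ u v w, c (u * v) w = c u w * c v w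
  map_mul_right : ∀ u v w, c u (v * w) = c u v * c u w
  self : ∀ u, c u u = 1
  cyclic : ∀ u v w z, c u v ≠ 1 → ∃ i : ℕ, c w z = c u v ^ i
  nondeg : ∀ u, (∀ v, c u v = 1) → u = 1

namespace IsPairing

variable {W M : Type*} [CommGroup W] [CommGroup M] {s : ℕ} {c : W → W → M}

/-- Fix the second variable. -/
def left (h : IsPairing s c) (w : W) : W →* M :=
  MonoidHom.mk' (fun u => c u w) fun u v => h.map_mul_left u v w

/-- Fix the first variable. -/
def right (h : IsPairing s c) (u : W) : W →* M :=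
  MonoidHom.mk' (fun w => c u w) fun v w => h.map_mul_right u v w

theorem swap (h : IsPairing s c) (u v : W) : c v u = (c u v)⁻¹ := by
  have h1 := h.self (u * v)
  rw [h.map_mul_left, h.map_mul_right, h.map_mul_right, h.self, h.self, one_mul, mul_one] at h1
  exact eq_inv_of_mul_eq_one_right h1

theorem pow_value (h : IsPairing s c) (u v : W) : c u v ^ s = 1 := by
  rw [show c u v ^ s = h.left v (u ^ s) from (map_pow (h.left v) u s).symm, h.pow_eq_one, map_one]

variable [Finite W] [Fact s.Prime]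

/-- A subgroup on which the pairing is non-degenerate has square order. -/
theorem card_sub_eq_sq (h : IsPairing s c) :
    ∀ U : Subgroup W, (∀ u ∈ U, (∀ v ∈ U, c u v = 1) → u = 1) →
      ∃ i : ℕ, Nat.card U = (s ^ i) ^ 2 := by
  intro U
  induction U using WellFoundedLT.induction with
  | ind U ih =>
  intro hU
  by_cases hbot : U = ⊥
  · exact ⟨0, by simp [hbot]⟩
  obtain ⟨⟨u, hu⟩, hu1⟩ := Subgroup.ne_bot_iff_exists_ne_one.1 hbot
  obtain ⟨v, hv, huv⟩ : ∃ v ∈ U, c u v ≠ 1 := by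
    by_contra hne
    push Not at hne
    exact hu1 (Subtype.ext (hU u hu hne))
  set t := c u v with ht
  have hto : orderOf t = s := orderOf_eq_prime (h.pow_value u v) huv
  let ψ : U →* M × M := ((h.left u).prod (h.left v)).comp U.subtype
  set U' := ψ.ker.map U.subtype with hU'
  have hmem : ∀ z, z ∈ U' ↔ z ∈ U ∧ c z u = 1 ∧ c z v = 1 := by
    intro z
    constructor
    · rintro ⟨w, hw, rfl⟩
      have hw' : (c w u, c w v) = (1 : M × M) := hw
      simp only [Prod.mk_eq_one] at hw'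
      exact ⟨w.2, hw'⟩
    · rintro ⟨hz, h1, h2⟩
      exact ⟨⟨z, hz⟩, Prod.ext h1 h2, rfl⟩
  have hrange : ψ.range = (Subgroup.zpowers t).prod (Subgroup.zpowers t) := by
    refine le_antisymm ?_ fun p hp => ?_
    · rintro _ ⟨z, rfl⟩
      obtain ⟨i, hi⟩ := h.cyclic u v z u huv
      obtain ⟨j, hj⟩ := h.cyclic u v z v huv
      refine ⟨⟨(i : ℤ), ?_⟩, ⟨(j : ℤ), ?_⟩⟩
      · show t ^ (i : ℤ) = c z u
        rw [zpow_natCast, hi]
      · show t ^ (j : ℤ) = c z v
        rw [zpow_natCast, hj]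
    · obtain ⟨⟨i, hi⟩, ⟨j, hj⟩⟩ := Subgroup.mem_prod.1 hp
      refine ⟨⟨v, hv⟩ ^ (-i) * ⟨u, hu⟩ ^ j, ?_⟩
      have e1 : ψ ⟨u, hu⟩ = (1, t) := Prod.ext (h.self u) rfl
      have e2 : ψ ⟨v, hv⟩ = (t⁻¹, 1) := Prod.ext (h.swap u v) (h.self v)
      rw [map_mul, map_zpow, map_zpow, e1, e2]
      simp only at hi hj
      ext <;> simp [← hi, ← hj]
  have hcard : Nat.card U = Nat.card U' * s ^ 2 := by
    rw [Subgroup.card_eq_card_quotient_mul_card_subgroup ψ.ker,
      Nat.card_congr (QuotientGroup.quotientKerEquivRange ψ).toEquiv, hrange,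
      Nat.card_congr (Subgroup.prodEquiv _ _).toEquiv, Nat.card_prod, Nat.card_zpowers, hto, hU',
      Subgroup.card_map_of_injective Subtype.val_injective]
    ring
  have hlt : U' < U := by
    refine lt_of_le_of_ne (Subgroup.map_subtype_le _) fun e => huv ?_
    exact ((hmem u).1 (e.symm ▸ hu)).2.2
  obtain ⟨i, hi⟩ := ih U' hlt fun z hz hzU' => by
    obtain ⟨hzU, hzu, hzv⟩ := (hmem z).1 hz
    refine hU z hzU fun w hw => ?_
    obtain ⟨a, ha⟩ := h.cyclic u v w u huv
    obtain ⟨b, hb⟩ := h.cyclic u v w v huv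
    rw [← ht] at ha hb
    have e1 : c v u = t⁻¹ := h.swap u v
    have hw' : w * v ^ a * (u ^ b)⁻¹ ∈ U' := by
      refine (hmem _).2 ⟨mul_mem (mul_mem hw (pow_mem hv a)) (inv_mem (pow_mem hu b)), ?_, ?_⟩
      · show h.left u (w * v ^ a * (u ^ b)⁻¹) = 1
        rw [map_mul, map_mul, map_inv, map_pow, map_pow]
        show c w u * c v u ^ a * (c u u ^ b)⁻¹ = 1
        rw [ha, e1, h.self, inv_pow, one_pow, inv_one, mul_one, mul_inv_cancel]
      · show h.left v (w * v ^ a * (u ^ b)⁻¹) = 1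
        rw [map_mul, map_mul, map_inv, map_pow, map_pow]
        show c w v * c v v ^ a * (c u v ^ b)⁻¹ = 1
        rw [hb, h.self, one_pow, mul_one, mul_inv_cancel]
    have h3 : h.right z (w * v ^ a * (u ^ b)⁻¹) = 1 := hzU' _ hw'
    rw [map_mul, map_mul, map_inv, map_pow, map_pow] at h3
    change c z w * c z v ^ a * (c z u ^ b)⁻¹ = 1 at h3
    rwa [hzv, hzu, one_pow, one_pow, inv_one, mul_one, mul_one] at h3
  exact ⟨i + 1, by rw [hcard, hi]; ring⟩

/-- The order of the group is a square. -/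
theorem card_eq_sq (h : IsPairing s c) : ∃ b : ℕ, Nat.card W = (s ^ b) ^ 2 := by
  obtain ⟨b, hb⟩ := h.card_sub_eq_sq ⊤ fun u _ hu => h.nondeg u fun v => hu v trivial
  exact ⟨b, by rwa [Subgroup.card_top] at hb⟩

omit [Fact s.Prime] in
/-- An automorphism of prime order different from `s` splits the group. -/
theorem exists_moved [Fact s.Prime] (h : IsPairing s c) {r : ℕ} [Fact r.Prime] (hrs : r ≠ s)
    (x : MulAut W) (hx : x ^ r = 1) (hx1 : x ≠ 1) (hpres : ∀ u v, c (x u) (x v) = c u v) :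
    ∃ (i : ℕ) (F : Subgroup W), 1 ≤ i ∧ (∀ w, w ∈ F ↔ x w = w) ∧
      Nat.card F * (s ^ i) ^ 2 = Nat.card W ∧ r ∣ (s ^ i) ^ 2 - 1 := by
  classical
  let δ : W →* W := MonoidHom.mk' (fun w => x w * w⁻¹) fun u v => by
    simp only [map_mul, mul_inv]; exact mul_mul_mul_comm _ _ _ _
  set F := δ.ker with hF
  set I := δ.range with hI
  have hFmem : ∀ w, w ∈ F ↔ x w = w := fun w => by
    show x w * w⁻¹ = 1 ↔ _
    exact mul_inv_eq_one
  have hdisj : ∀ z ∈ I, z ∈ F → z = 1 := by
    rintro _ ⟨w, rfl⟩ hz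
    set d := δ w with hd
    have hxd : x d = d := (hFmem d).1 hz
    have hxw : x w = d * w := by show x w = x w * w⁻¹ * w; group
    have hk : ∀ k : ℕ, (x ^ k) w = d ^ k * w := by
      intro k
      induction k with
      | zero => simp
      | succ k ih =>
        rw [pow_succ', MulAut.mul_apply, ih, map_mul, map_pow, hxd, hxw, pow_succ, mul_assoc]
    have h1 := hk r
    rw [hx, MulAut.one_apply] at h1
    have h2 : d ^ r = 1 := mul_eq_right.1 h1.symm
    have h3 : (Nat.gcd r s) = 1 := (Nat.coprime_primes Fact.out Fact.out).2 hrs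
    have h4 : d ^ Nat.gcd r s = 1 := pow_gcd_eq_one.2 ⟨h2, h.pow_eq_one d⟩
    rwa [h3, pow_one] at h4
  have hcard : Nat.card F * Nat.card I = Nat.card W := by
    rw [Subgroup.card_eq_card_quotient_mul_card_subgroup δ.ker,
      Nat.card_congr (QuotientGroup.quotientKerEquivRange δ).toEquiv, mul_comm]
  have horth : ∀ f ∈ F, ∀ z ∈ I, c f z = 1 := by
    rintro f hf _ ⟨w, rfl⟩
    show h.right f (x w * w⁻¹) = 1
    rw [map_mul, map_inv]
    show c f (x w) * (c f w)⁻¹ = 1
    conv_lhs => rw [← (hFmem f).1 hf, hpres, (hFmem f).1 hf]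
    exact mul_inv_cancel _
  have hsup : F ⊔ I = ⊤ := by
    refine Subgroup.eq_top_of_card_eq _ ?_
    have hb : F ⊓ I = ⊥ := eq_bot_iff.2 fun z hz => hdisj z hz.2 hz.1
    refine le_antisymm (Subgroup.card_le_card_group _) (hcard.symm.trans_le ?_)
    have hinj : Function.Injective fun p : F × I => (⟨p.1 * p.2,
        mul_mem (Subgroup.mem_sup_left p.1.2) (Subgroup.mem_sup_right p.2.2)⟩ : ↥(F ⊔ I)) := by
      rintro ⟨a, b⟩ ⟨a', b'⟩ e
      have e' : (a : W) * b = a' * b' := congrArg Subtype.val e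
      have hz : (a' : W)⁻¹ * a ∈ F ⊓ I := by
        refine ⟨mul_mem (F.inv_mem a'.2) a.2, ?_⟩
        rw [show (a' : W)⁻¹ * a = b' * (b : W)⁻¹ by
          rw [eq_mul_inv_iff_mul_eq, mul_assoc, e', inv_mul_cancel_left]]
        exact mul_mem b'.2 (I.inv_mem b.2)
      rw [hb, Subgroup.mem_bot, inv_mul_eq_one] at hz
      obtain rfl : a' = a := Subtype.ext hz
      obtain rfl : b = b' := Subtype.ext (mul_left_cancel e')
      rfl
    have := Nat.card_le_card_of_injective _ hinj
    rwa [Nat.card_prod] at this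
  obtain ⟨i, hi⟩ := h.card_sub_eq_sq I fun u hu hperp => h.nondeg u fun v => by
    have hv : v ∈ F ⊔ I := hsup ▸ trivial
    obtain ⟨a, ha, b, hb, rfl⟩ := Subgroup.mem_sup.1 hv
    rw [h.map_mul_right, hperp b hb, h.swap a u, horth a ha u hu, inv_one, one_mul]
  have hI1 : I ≠ ⊥ := by
    intro e
    refine hx1 (MulEquiv.ext fun w => ?_)
    have : δ w ∈ (⊥ : Subgroup W) := e ▸ ⟨w, rfl⟩
    exact mul_inv_eq_one.1 (Subgroup.mem_bot.1 this)
  have hi1 : 1 ≤ i := by
    by_contra h0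
    have : i = 0 := by omega
    rw [this, pow_zero, one_pow] at hi
    exact hI1 (Subgroup.card_eq_one.1 hi)
  refine ⟨i, F, hi1, hFmem, by rw [← hi]; exact hcard, ?_⟩
  have hxI : ∀ z ∈ I, x z ∈ I := by
    rintro _ ⟨w, rfl⟩
    exact ⟨x w, by show x (x w) * (x w)⁻¹ = x (x w * w⁻¹); rw [map_mul, map_inv]⟩
  let g : Function.End I := fun z => ⟨x z, hxI z z.2⟩
  have hg : ∀ (k : ℕ) (z : I), ((g ^ k) z : W) = (x ^ k) z := by
    intro k
    induction k with
    | zero => exact fun z => rfl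
    | succ k ih =>
      intro z
      rw [pow_succ', pow_succ']
      show x ((g ^ k) z : W) = x ((x ^ k) z)
      rw [ih]
  have hgr : g ^ r ^ 1 = 1 := funext fun z => Subtype.ext (by
    rw [hg, pow_one, hx]; rfl)
  haveI : Fintype g.fixedPoints := Fintype.ofFinite _
  have hfix : Fintype.card g.fixedPoints = 1 := by
    rw [Fintype.card_eq_one_iff]
    refine ⟨⟨1, Subtype.ext (map_one x)⟩, fun z => Subtype.ext (Subtype.ext ?_)⟩
    exact hdisj _ z.1.2 ((hFmem _).2 (congrArg Subtype.val z.2))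
  have : Fintype I := Fintype.ofFinite _
  have hm := Equiv.Perm.card_fixedPoints_modEq hgr
  simp only [← Nat.card_eq_fintype_card] at hm hfix
  rw [hfix, hi] at hm
  exact (Nat.modEq_iff_dvd' (Nat.one_le_pow _ _ (pow_pos (Fact.out (p := s.Prime)).pos i))).1 hm.symm

/-- A prime order automorphism is bounded by `s ^ b + 1`. -/
theorem prime_le (h : IsPairing s c) {r : ℕ} [Fact r.Prime] (hrs : r ≠ s) {b : ℕ}
    (hb : Nat.card W = (s ^ b) ^ 2)
    (x : MulAut W) (hx : x ^ r = 1) (hx1 : x ≠ 1) (hpres : ∀ u v, c (x u) (x v) = c u v) :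
    r ≤ s ^ b + 1 := by
  obtain ⟨i, F, hi, -, hcard, hdvd⟩ := h.exists_moved hrs x hx hx1 hpres
  have hs : s.Prime := Fact.out
  have h2 : 2 ≤ s ^ i := le_trans hs.two_le (Nat.le_self_pow (by omega) s)
  have hle : s ^ i ≤ s ^ b := by
    have : (s ^ i) ^ 2 ≤ (s ^ b) ^ 2 := by
      rw [← hb, ← hcard]; exact Nat.le_mul_of_pos_left _ Nat.card_pos
    exact (Nat.pow_le_pow_iff_left two_ne_zero).1 this
  have e : (s ^ i) ^ 2 - 1 = (s ^ i + 1) * (s ^ i - 1) := by
    rw [← Nat.sq_sub_sq, one_pow]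
  rw [e] at hdvd
  rcases (Fact.out : r.Prime).dvd_mul.1 hdvd with h' | h'
  · have := Nat.le_of_dvd (by omega) h'
    omega
  · have := Nat.le_of_dvd (by omega) h'
    omega

/-- Automorphisms of order five of a group of order sixteen preserving the pairing are
fixed-point-free. -/
theorem fixed_eq_one_of_five [Fact (Nat.Prime 5)] (h : IsPairing s c) (hs : s = 2)
    (hW : Nat.card W = 16) (x : MulAut W) (hx : x ^ 5 = 1) (hx1 : x ≠ 1)
    (hpres : ∀ u v, c (x u) (x v) = c u v) {w : W} (hw : x w = w) : w = 1 := by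
  obtain ⟨i, F, hi, hF, hcard, hdvd⟩ := h.exists_moved (r := 5) (by omega) x hx hx1 hpres
  subst hs
  rw [hW] at hcard
  have hi2 : i = 2 := by
    have h16 : (2 ^ i) ^ 2 ≤ 16 := Nat.le_of_dvd (by norm_num) ⟨_, hcard.symm.trans (mul_comm _ _)⟩
    have : i ≤ 2 := by
      by_contra hh
      have : 2 ^ 3 ≤ 2 ^ i := Nat.pow_le_pow_right two_pos (by omega)
      nlinarith
    interval_cases i
    · norm_num at hdvd
    · rfl
  subst hi2
  have h1 : Nat.card F = 1 :=
    Nat.eq_of_mul_eq_mul_right (by norm_num : 0 < (2 ^ 2) ^ 2) (by rw [hcard]; norm_num)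
  have := (hF w).2 hw
  rwa [Subgroup.card_eq_one.1 h1, Subgroup.mem_bot] at this

end IsPairing

end Cfsg.Agent.Huppert69
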