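import Cfsg.Agent.Huppert69.Field
import Cfsg.Agent.Lib.NumberTheory.Cyclotomic

/-!
A linear map whose order is a primitive prime divisor has commutative centraliser.
-/

namespace Cfsg.Agent.Huppert69

open Cfsg.Agent.NumberTheory

variable {q : ℕ} [Fact q.Prime] {V : Type*} [AddCommGroup V] [Module (ZMod q) V] [Finite V]

/-- Maps commuting with a linear map of primitive prime order commute. -/
theorem commute_of_primitive {r : ℕ} (hr : IsPrimitivePrimeDivisor r q (Module.finrank (ZMod q) V))
    (x : Module.End (ZMod q) V) (hx : x ^ r = 1) (hx1 : x ≠ 1)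
    (f g : Module.End (ZMod q) V) (hf : f * x = x * f) (hg : g * x = x * g) : f * g = g * f := by
  classical
  have hrp : Fact r.Prime := ⟨hr.1⟩
  have hq2 := (Fact.out (p := q.Prime)).two_le
  have hn : 0 < Module.finrank (ZMod q) V := by
    rw [Module.finrank_pos_iff]
    by_contra hs
    rw [not_nontrivial_iff_subsingleton] at hs
    exact hx1 (LinearMap.ext fun v => Subsingleton.elim _ _)
  have hrq : r ≠ q := by
    rintro rfl
    have h1 := hr.2.1
    have h2 : r ∣ r ^ Module.finrank (ZMod r) V := dvd_pow_self r hn.ne'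
    have := Nat.dvd_sub h2 h1
    rw [Nat.sub_sub_self (Nat.one_le_pow _ _ (by omega)), Nat.dvd_one] at this
    exact hr.1.one_lt.ne' this
  set I := LinearMap.range (x - 1) with hI
  set K := LinearMap.ker (x - 1) with hK
  have hKmem : ∀ v, v ∈ K ↔ x v = v := fun v => by
    rw [hK, LinearMap.mem_ker, LinearMap.sub_apply, Module.End.one_apply, sub_eq_zero]
  -- a moved vector is not fixed
  have hdisj : ∀ u ∈ I, u ∈ K → u = 0 := by
    rintro _ ⟨v, rfl⟩ hu
    set u := (x - 1) v with hudef
    have hxu : x u = u := (hKmem u).1 hu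
    have hxv : x v = v + u := by
      rw [hudef, LinearMap.sub_apply, Module.End.one_apply]; abel
    have hk : ∀ k : ℕ, (x ^ k) v = v + k • u := by
      intro k
      induction k with
      | zero => simp
      | succ k ih =>
        rw [pow_succ', Module.End.mul_apply, ih, map_add, map_nsmul, hxu, hxv, succ_nsmul']
        abel
    have h1 := hk r
    rw [hx, Module.End.one_apply] at h1
    have h2 : r • u = 0 := by simpa using h1
    have h3 : q • u = 0 := by
      rw [← Nat.cast_smul_eq_nsmul (ZMod q), ZMod.natCast_self, zero_smul]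
    have hc : Nat.gcd r q = 1 := (Nat.coprime_primes hr.1 Fact.out).2 hrq
    have hbez : ((r : ZMod q)) • u = 0 := by rw [Nat.cast_smul_eq_nsmul, h2]
    have hne : (r : ZMod q) ≠ 0 := by
      rw [Ne, ZMod.natCast_eq_zero_iff]
      intro hd
      exact hrq ((Nat.prime_dvd_prime_iff_eq Fact.out hr.1).1 hd).symm
    exact (smul_eq_zero.1 hbez).resolve_left hne
  -- invariant submodules meeting `K` trivially are trivial or everything
  have key : ∀ W : Submodule (ZMod q) V, (∀ w ∈ W, x w ∈ W) → (∀ w ∈ W, w ∈ K → w = 0) →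
      W = ⊥ ∨ W = ⊤ := by
    intro W hW hWK
    let e : Function.End W := fun w => ⟨x w, hW w w.2⟩
    have he : ∀ (k : ℕ) (w : W), ((e ^ k) w : V) = (x ^ k) w := by
      intro k
      induction k with
      | zero => exact fun w => rfl
      | succ k ih =>
        intro w
        rw [pow_succ', pow_succ']
        show x ((e ^ k) w : V) = x ((x ^ k) w)
        rw [ih]
    have her : e ^ r ^ 1 = 1 := funext fun w => Subtype.ext (by rw [he, pow_one, hx]; rfl)
    haveI : Fintype W := Fintype.ofFinite W
    haveI : Fintype e.fixedPoints := Fintype.ofFinite _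
    have hm := Equiv.Perm.card_fixedPoints_modEq her
    have hfix : Nat.card e.fixedPoints = 1 := by
      rw [Nat.card_eq_one_iff_unique]
      refine ⟨⟨fun a b => Subtype.ext (Subtype.ext ?_)⟩, ⟨0, Subtype.ext (map_zero x)⟩⟩
      rw [hWK _ a.1.2 ((hKmem _).2 (congrArg Subtype.val a.2)),
        hWK _ b.1.2 ((hKmem _).2 (congrArg Subtype.val b.2))]
    simp only [← Nat.card_eq_fintype_card] at hm
    rw [hfix, Module.natCard_eq_pow_finrank (K := ZMod q), Nat.card_zmod] at hm
    have hd := (Nat.modEq_iff_dvd' (Nat.one_le_pow _ _ (by omega))).1 hm.symm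
    rw [hr.dvd_pow_sub_one_iff' (by omega) hn] at hd
    rcases Nat.eq_zero_or_pos (Module.finrank (ZMod q) W) with h0 | h0
    · exact Or.inl (Submodule.finrank_eq_zero.1 h0)
    · exact Or.inr (Submodule.eq_top_of_finrank_eq
        (le_antisymm (Submodule.finrank_le W) (Nat.le_of_dvd h0 hd)))
  have hIinv : ∀ u ∈ I, x u ∈ I := by
    rintro _ ⟨v, rfl⟩
    exact ⟨x v, by simp [LinearMap.sub_apply, Module.End.one_apply]⟩
  have hItop : I = ⊤ := (key I hIinv hdisj).resolve_left fun h => hx1 (LinearMap.ext fun v => by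
    have : (x - 1) v ∈ (⊥ : Submodule (ZMod q) V) := h ▸ ⟨v, rfl⟩
    simpa [sub_eq_zero] using this)
  have hK0 : ∀ w, w ∈ K → w = 0 := fun w hw => hdisj w (hItop ▸ Submodule.mem_top) hw
  have hnt : Nontrivial V := Module.finrank_pos_iff.1 hn
  obtain ⟨v₀, hv₀⟩ := exists_ne (0 : V)
  -- every vector is a polynomial in `x` applied to `v₀`
  let P := Subalgebra.toSubmodule (Algebra.adjoin (ZMod q) ({x} : Set (Module.End (ZMod q) V)))
  have hxP : ∀ p ∈ Algebra.adjoin (ZMod q) ({x} : Set (Module.End (ZMod q) V)), x * p ∈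
      Algebra.adjoin (ZMod q) ({x} : Set (Module.End (ZMod q) V)) := fun p hp =>
    mul_mem (Algebra.self_mem_adjoin_singleton _ _) hp
  have hgen : Submodule.map (LinearMap.applyₗ v₀) P = ⊤ := by
    refine (key _ ?_ fun w _ hw => hK0 w hw).resolve_left fun h => hv₀ ?_
    · rintro _ ⟨p, hp, rfl⟩
      exact ⟨x * p, hxP p hp, rfl⟩
    · exact (Submodule.mem_bot (ZMod q)).1 (h ▸ ⟨1, one_mem (Algebra.adjoin (ZMod q) ({x} : Set (Module.End (ZMod q) V))), rfl⟩)
  have hcomm : ∀ h : Module.End (ZMod q) V, h * x = x * h →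
      ∀ p ∈ Algebra.adjoin (ZMod q) ({x} : Set (Module.End (ZMod q) V)), h * p = p * h := by
    intro h hh p hp
    induction hp using Algebra.adjoin_induction with
    | mem y hy => rw [Set.mem_singleton_iff.1 hy, hh]
    | algebraMap c => exact (Algebra.commutes c h).symm
    | add a b _ _ ha hb => rw [mul_add, add_mul, ha, hb]
    | mul a b _ _ ha hb => rw [← mul_assoc, ha, mul_assoc, hb, mul_assoc]
  -- anything commuting with `x` is a polynomial in it
  have hpoly : ∀ h : Module.End (ZMod q) V, h * x = x * h →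
      h ∈ Algebra.adjoin (ZMod q) ({x} : Set (Module.End (ZMod q) V)) := by
    intro h hh
    obtain ⟨p, hp, hpv⟩ : h v₀ ∈ Submodule.map (LinearMap.applyₗ v₀) P := hgen ▸ Submodule.mem_top
    suffices h = p from this ▸ hp
    refine LinearMap.ext fun w => ?_
    obtain ⟨p', hp', hp'w⟩ : w ∈ Submodule.map (LinearMap.applyₗ v₀) P := hgen ▸ Submodule.mem_top
    change p v₀ = h v₀ at hpv
    change p' v₀ = w at hp'w
    have hpx : p * x = x * p := (hcomm x rfl p hp).symm
    rw [← hp'w, ← Module.End.mul_apply, hcomm h hh p' hp', Module.End.mul_apply, ← hpv,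
      ← Module.End.mul_apply, ← hcomm p hpx p' hp', Module.End.mul_apply]
  exact hcomm f hf g (hpoly g hg)

end Cfsg.Agent.Huppert69
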