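import Cfsg.Agent.Huppert69.Field
import Cfsg.Agent.Huppert69.Pairing

/-!
A minimal normal subgroup above a maximal abelian normal subgroup in a solvable transitive linear
group: the pairing on the section and its consequences.
-/

namespace Cfsg.Agent.Huppert69

open scoped commutatorElement

variable {q : ℕ} [Fact q.Prime] {V : Type*} [AddCommGroup V] [Module (ZMod q) V] [Finite V]
variable {G : Type*} [Group G] [Finite G]

/-- `A` maximal abelian normal, `B / A` a chief factor inside the centraliser of `A`. -/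
structure Ctx (ρ : G →* (V ≃ₗ[ZMod q] V)) (A B : Subgroup G) (s : ℕ) : Prop
    extends Setting ρ A where
  maximal : ∀ K : Subgroup G, K.Normal → A ≤ K → (∀ a ∈ K, ∀ b ∈ K, a * b = b * a) → K = A
  prime : s.Prime
  normalB : B.Normal
  lt : A < B
  le_centralizer : B ≤ Subgroup.centralizer (A : Set G)
  commutator_mem : ∀ x ∈ B, ∀ y ∈ B, ⁅x, y⁆ ∈ A
  pow_mem : ∀ x ∈ B, x ^ s ∈ A
  chief : ∀ K : Subgroup G, K.Normal → A ≤ K → K ≤ B → K = A ∨ K = B

variable {ρ : G →* (V ≃ₗ[ZMod q] V)} {A B : Subgroup G} {s : ℕ}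

/-- A solvable transitive linear group is semilinear or yields a context. -/
theorem semilinear_or_ctx [Nontrivial V] (hsol : Group.IsSolvable G) (hinj : Function.Injective ρ)
    (htrans : ∀ v w : V, v ≠ 0 → w ≠ 0 → ∃ g : G, ρ g v = w) :
    (∃ (F : Type) (_ : Field F) (_ : Fintype F) (e : V ≃+ F),
      ∀ g : G, ∃ (a : F) (σ : F ≃+* F), ∀ v : V, e (ρ g v) = a * σ (e v)) ∨
    ∃ (A B : Subgroup G) (s : ℕ), Ctx ρ A B s := by
  classical
  obtain ⟨A, ⟨hAn, hAc⟩, hAmax⟩ := Set.Finite.exists_maximal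
    (Set.toFinite {A : Subgroup G | A.Normal ∧ ∀ a ∈ A, ∀ b ∈ A, a * b = b * a})
    ⟨⊥, inferInstance, by rintro a ha b hb; rw [Subgroup.mem_bot.1 ha, Subgroup.mem_bot.1 hb]⟩
  have hS : Setting ρ A := ⟨hinj, htrans, hAn, hAc⟩
  have hmax : ∀ K : Subgroup G, K.Normal → A ≤ K → (∀ a ∈ K, ∀ b ∈ K, a * b = b * a) → K = A :=
    fun K hK hAK hKc => le_antisymm (hAmax ⟨hK, hKc⟩ hAK) hAK
  have hAC : A ≤ Subgroup.centralizer (A : Set G) := fun a ha =>
    Subgroup.mem_centralizer_iff.2 fun b hb => hAc b hb a ha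
  rcases hAC.lt_or_eq with hlt | heq
  · right
    obtain ⟨B, ⟨hBn, hAB, hBC⟩, hBmin⟩ := Set.Finite.exists_minimal
      (Set.toFinite {B : Subgroup G | B.Normal ∧ A < B ∧ B ≤ Subgroup.centralizer (A : Set G)})
      ⟨_, inferInstance, hlt, le_rfl⟩
    have hchief : ∀ K : Subgroup G, K.Normal → A ≤ K → K ≤ B → K = A ∨ K = B := fun K hK h1 h2 => by
      rcases h1.lt_or_eq with h | h
      · exact Or.inr (le_antisymm h2 (hBmin ⟨hK, h, h2.trans hBC⟩ h2))
      · exact Or.inl h.symm
    have hder : ⁅B, B⁆ ≤ A := by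
      have hK : (⁅B, B⁆ ⊔ A).Normal := Subgroup.sup_normal _ _
      rcases hchief _ hK le_sup_right (sup_le (Subgroup.commutator_le_self B) hAB.le) with h | h
      · exact h ▸ le_sup_left
      exfalso
      have hperf : B.map (QuotientGroup.mk' A) =
          ⁅B.map (QuotientGroup.mk' A), B.map (QuotientGroup.mk' A)⁆ := by
        rw [← Subgroup.map_commutator]
        conv_lhs => rw [← h, Subgroup.map_sup, QuotientGroup.map_mk'_self, sup_bot_eq]
      have hne : B.map (QuotientGroup.mk' A) ≠ ⊥ := by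
        intro e
        rw [Subgroup.map_eq_bot_iff, QuotientGroup.ker_mk'] at e
        exact hAB.not_ge e
      exact (Group.IsSolvable.commutator_lt_of_ne_bot (G := G ⧸ A) hne).ne hperf.symm
    have hcm : ∀ x ∈ B, ∀ y ∈ B, ⁅x, y⁆ ∈ A := fun x hx y hy =>
      hder (Subgroup.commutator_mem_commutator hx hy)
    -- a prime dividing the index
    have hidx : 1 < A.relIndex B := by
      have h0 : A.relIndex B ≠ 0 := Subgroup.index_ne_zero_of_finite
      have h1 : A.relIndex B ≠ 1 := fun e => hAB.not_ge (Subgroup.relIndex_eq_one.1 e)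
      omega
    set s := (A.relIndex B).minFac with hs
    have hsp : s.Prime := Nat.minFac_prime hidx.ne'
    haveI : Fact s.Prime := ⟨hsp⟩
    have hnA : (A.subgroupOf B).Normal := Subgroup.normal_subgroupOf
    have hmk : ∀ x y : B, QuotientGroup.mk' (A.subgroupOf B) x * QuotientGroup.mk' _ y =
        QuotientGroup.mk' _ y * QuotientGroup.mk' _ x := fun x y => by
      rw [← map_mul, ← map_mul, QuotientGroup.mk'_apply, QuotientGroup.mk'_apply, QuotientGroup.eq,
        Subgroup.mem_subgroupOf]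
      have : ((x * y)⁻¹ * (y * x) : B) = (⁅(y : B)⁻¹, x⁻¹⁆ : B) := by
        rw [commutatorElement_def]; group
      rw [this]
      exact hcm _ (inv_mem y.2) _ (inv_mem x.2)
    let tor : Subgroup B :=
      { carrier := {x | x ^ s ∈ A.subgroupOf B}
        one_mem' := by simp
        mul_mem' := fun {x y} hx hy => by
          simp only [Set.mem_setOf_eq, ← QuotientGroup.eq_one_iff] at hx hy ⊢
          have hc : Commute (QuotientGroup.mk' (A.subgroupOf B) x) (QuotientGroup.mk' _ y) := hmk x y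
          show QuotientGroup.mk' (A.subgroupOf B) ((x * y) ^ s) = 1
          rw [map_pow, map_mul, hc.mul_pow, ← map_pow, ← map_pow]
          simp [hx, hy]
        inv_mem' := fun {x} hx => by
          show x⁻¹ ^ s ∈ A.subgroupOf B
          rw [inv_pow]; exact (A.subgroupOf B).inv_mem hx }
    have hexp : ∀ x ∈ B, x ^ s ∈ A := by
      have hK : (tor.map B.subtype).Normal := by
        constructor
        rintro _ ⟨x, hx, rfl⟩ g
        refine ⟨⟨g * x * g⁻¹, hBn.conj_mem _ x.2 g⟩, ?_, rfl⟩
        show (g * x * g⁻¹) ^ s ∈ A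
        rw [conj_pow]
        exact hAn.conj_mem _ hx g
      have hAK : A ≤ tor.map B.subtype := fun a ha =>
        ⟨⟨a, hAB.le ha⟩, (show a ^ s ∈ A from pow_mem ha s), rfl⟩
      rcases hchief _ hK hAK (Subgroup.map_subtype_le _) with h | h
      · exfalso
        obtain ⟨z, hz⟩ := exists_prime_orderOf_dvd_card' (G := B ⧸ A.subgroupOf B) s
          (Nat.minFac_dvd _)
        obtain ⟨x, rfl⟩ := QuotientGroup.mk_surjective z
        have hx : x ∈ tor := by
          show x ^ s ∈ A.subgroupOf B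
          rw [← QuotientGroup.eq_one_iff, QuotientGroup.mk_pow, ← hz, pow_orderOf_eq_one]
        have hxA : (x : G) ∈ A := h ▸ ⟨x, hx, rfl⟩
        rw [(QuotientGroup.eq_one_iff x).2 hxA, orderOf_one] at hz
        exact hsp.one_lt.ne hz
      · intro x hx
        obtain ⟨y, hy, rfl⟩ : x ∈ tor.map B.subtype := h.symm ▸ hx
        exact hy
    exact ⟨A, B, s, ⟨hS, hmax, hsp, hBn, hAB, hBC, hcm, hexp, hchief⟩⟩
  · left
    obtain ⟨v₀, hv₀⟩ := exists_ne (0 : V)
    refine semilinear_of_cyc_eq_top hS hv₀ ?_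
    letI : Field (alg ρ A) := (isField_alg hS).toField
    haveI := Fintype.ofFinite (alg ρ A)
    -- sizes
    have hEcyc : Nat.card (alg ρ A) = Nat.card (cyc ρ A v₀) := by
      refine Nat.card_congr (Equiv.ofBijective (fun e => ⟨(e : Module.End (ZMod q) V) v₀,
        mem_cyc.2 ⟨e, e.2, rfl⟩⟩) ⟨fun a b hab => ?_, fun u => ?_⟩)
      · refine sub_eq_zero.1 (Subtype.ext (eq_zero_of_apply_eq_zero hS (a - b).2 hv₀ ?_))
        show (a : Module.End (ZMod q) V) v₀ - (b : Module.End (ZMod q) V) v₀ = 0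
        exact sub_eq_zero.2 (congrArg Subtype.val hab)
      · obtain ⟨e, he, heu⟩ := mem_cyc.1 u.2
        exact ⟨⟨e, he⟩, Subtype.ext heu⟩
    set d := Module.finrank (ZMod q) (cyc ρ A v₀) with hd
    set n := Module.finrank (ZMod q) V with hn
    have hEd : Nat.card (alg ρ A) = q ^ d := by
      rw [hEcyc, Module.natCard_eq_pow_finrank (K := ZMod q), Nat.card_zmod]
    have hVn : Nat.card V = q ^ n := by
      rw [Module.natCard_eq_pow_finrank (K := ZMod q), Nat.card_zmod]
    have hdn : d ≤ n := Submodule.finrank_le _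
    by_contra hne
    have hlt : d < n := Submodule.finrank_lt hne
    have hd0 : 0 < d := by
      rw [hd, Module.finrank_pos_iff]
      exact ⟨⟨⟨v₀, self_mem_cyc v₀⟩, 0, fun e => hv₀ (congrArg Subtype.val e)⟩⟩
    -- `V` is a vector space over the algebra
    have hmul : ∃ m, Nat.card V = Nat.card (alg ρ A) ^ m := ⟨_, Module.natCard_eq_pow_finrank⟩
    obtain ⟨m, hm⟩ := hmul
    have hnm : n = d * m := by
      rw [hVn, hEd, ← pow_mul] at hm
      exact Nat.pow_right_injective (Fact.out (p := q.Prime)).two_le hm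
    have hm2 : 2 ≤ m := by
      rcases m with _ | _ | m
      · omega
      · omega
      · omega
    have hA : Nat.card A ≤ q ^ d - 1 := by
      rw [← hEd, ← Nat.card_units]
      refine Nat.card_le_card_of_injective
        (fun a => Units.mk0 (⟨lin ρ a, lin_mem_alg a.2⟩ : alg ρ A) ?_) fun a b e => ?_
      · intro e
        have h1 := lin_mul_inv (ρ := ρ) (a : G)
        rw [show lin ρ (a : G) = 0 from congrArg Subtype.val e] at h1
        obtain ⟨v, hv⟩ := exists_ne (0 : V)
        exact hv (by have := congrFun (congrArg DFunLike.coe h1) v; simpa using this.symm)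
      · exact Subtype.ext (lin_injective hS (congrArg Subtype.val (congrArg Units.val e)))
    have hidx : Nat.card G ≤ d * Nat.card A := by
      have hk : (sigmaHom hS).ker = A := (ker_sigmaHom hS).trans heq.symm
      have h1 := Subgroup.card_eq_card_quotient_mul_card_subgroup (sigmaHom hS).ker
      rw [Nat.card_congr (QuotientGroup.quotientKerEquivRange (sigmaHom hS)).toEquiv, hk] at h1
      rw [h1]
      haveI : Finite (alg ρ A ≃+* alg ρ A) :=
        Finite.of_injective (fun σ => (σ : alg ρ A → alg ρ A)) DFunLike.coe_injective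
      refine Nat.mul_le_mul_right _ ((Subgroup.card_le_card_group _).trans ?_)
      rw [CG26.card_fieldAut q d (by rw [← Nat.card_eq_fintype_card, hEd])]
    have hG : q ^ n - 1 ≤ Nat.card G := by
      have hc : Nat.card {v : V // v ≠ 0} = q ^ n - 1 := by
        rw [← hVn]
        have := Nat.card_congr (Equiv.sumCompl (fun v : V => v = 0))
        rw [Nat.card_sum, Nat.card_unique] at this
        show Nat.card {v : V // ¬ v = 0} = _
        omega
      rw [← hc]
      refine Nat.card_le_card_of_surjective (fun g => (⟨ρ g v₀, by simpa using hv₀⟩ : {v : V // v ≠ 0}))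
        fun w => ?_
      obtain ⟨g, hg⟩ := htrans v₀ w hv₀ w.2
      exact ⟨g, Subtype.ext hg⟩
    have hq2 := (Fact.out (p := q.Prime)).two_le
    have hqd : d + 1 ≤ q ^ d := Nat.lt_pow_self (by omega)
    have h2d : (q ^ d) ^ 2 ≤ q ^ n := by
      rw [← pow_mul]
      exact Nat.pow_le_pow_right (by omega) (by rw [hnm]; exact Nat.mul_le_mul_left d hm2)
    have h3 : q ^ n - 1 ≤ d * (q ^ d - 1) := hG.trans (hidx.trans (Nat.mul_le_mul_left _ hA))
    obtain ⟨Q, hQ⟩ : ∃ Q, q ^ d = Q + 1 := ⟨q ^ d - 1, by omega⟩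
    rw [hQ] at h2d h3 hqd
    simp only [Nat.add_sub_cancel] at h3
    have : (Q + 1) ^ 2 ≤ d * Q + 1 := by omega
    nlinarith

namespace Ctx

variable (h : Ctx ρ A B s)
include h

theorem hAn : A.Normal := h.normal

/-- The elements acting as members of the algebra lie in `A`. -/
theorem mem_of_lin_mem {g : G} (hg : lin ρ g ∈ alg ρ A) : g ∈ A := by
  let Z : Subgroup G :=
    { carrier := {x | lin ρ x ∈ alg ρ A}
      one_mem' := by show lin ρ 1 ∈ alg ρ A; rw [map_one]; exact one_mem _
      mul_mem' := fun {x y} hx hy => by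
        show lin ρ (x * y) ∈ alg ρ A; rw [map_mul]; exact mul_mem hx hy
      inv_mem' := fun {x} hx => by
        show lin ρ x⁻¹ ∈ alg ρ A
        rw [inv_eq_of_mul_eq_one_right (b := x ^ (orderOf x - 1)) (by
          rw [← pow_succ', Nat.sub_add_cancel (orderOf_pos x), pow_orderOf_eq_one]), map_pow]
        exact _root_.pow_mem hx _ }
  have hZ : Z = A := h.maximal Z ⟨fun x hx g => by
      show lin ρ (g * x * g⁻¹) ∈ alg ρ A
      rw [map_mul, map_mul]
      exact conj_mem_alg h.toSetting g hx⟩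
    (fun a ha => lin_mem_alg ha) fun a ha b hb =>
      lin_injective h.toSetting (by rw [map_mul, map_mul]; exact alg_comm h.toSetting ha hb)
  exact hZ ▸ (hg : g ∈ Z)

theorem commute_A {a b : G} (ha : a ∈ A) (hb : b ∈ B) : a * b = b * a :=
  Subgroup.mem_centralizer_iff.1 (h.le_centralizer hb) a ha

theorem mem_of_commute {z : G} (hz : z ∈ B) (hc : ∀ y ∈ B, z * y = y * z) : z ∈ A := by
  have := h.normalB
  have := h.normal
  let Z : Subgroup G := B ⊓ Subgroup.centralizer (B : Set G)
  have hZ : Z = A := h.maximal Z inferInstance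
    (fun a ha => ⟨h.lt.le ha, Subgroup.mem_centralizer_iff.2 fun b hb => (h.commute_A ha hb).symm⟩)
    fun a ha b hb => Subgroup.mem_centralizer_iff.1 hb.2 a ha.1
  exact hZ ▸ (show z ∈ Z from ⟨hz, Subgroup.mem_centralizer_iff.2 fun y hy => (hc y hy).symm⟩)

end Ctx

end Cfsg.Agent.Huppert69
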