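import Cfsg.Agent.Huppert69.Linear
import Cfsg.Agent.Huppert69.Centralizer
import Cfsg.Agent.Lib.NumberTheory.Zsigmondy

/-!
Huppert's theorem on solvable linear groups transitive on the non-zero vectors: outside the
semilinear groups only the orders 3^2, 5^2, 7^2, 11^2, 23^2, 3^4 occur.
-/

namespace Cfsg.Agent.Huppert69

open scoped commutatorElement IsMulCommutative
open Cfsg.Agent.NumberTheory

variable {q : ℕ} [Fact q.Prime] {V : Type*} [AddCommGroup V] [Module (ZMod q) V] [Finite V]
variable {G : Type*} [Group G] [Finite G]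
variable {ρ : G →* (V ≃ₗ[ZMod q] V)} {A B : Subgroup G} {s : ℕ}

/-- The numerical invariants of a context. -/
structure Nums (q d m b s cV cA cG cW : ℕ) : Prop where
  hd : 1 ≤ d
  hb : 1 ≤ b
  hV : cV = q ^ (d * m)
  hW : cW = (s ^ b) ^ 2
  hle : s ^ b ≤ m
  hA : cA ∣ q ^ d - 1
  hs : s ∣ cA
  hG : q ^ (d * m) - 1 ∣ cG

/-- The set of non-zero vectors is an orbit. -/
theorem card_sub_one_dvd [Nontrivial V] (h : Setting ρ A) : Nat.card V - 1 ∣ Nat.card G := by
  classical
  obtain ⟨v₀, hv₀⟩ := exists_ne (0 : V)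
  let act : MulAction G V := MulAction.compHom V ρ
  have horb : MulAction.orbit G v₀ = ({0}ᶜ : Set V) := by
    ext v
    constructor
    · rintro ⟨g, rfl⟩
      show ρ g v₀ ≠ 0
      simpa using hv₀
    · intro hv
      obtain ⟨g, hg⟩ := h.trans v₀ v hv₀ hv
      exact ⟨g, hg⟩
  have h1 := (MulAction.stabilizer G v₀).index_dvd_card
  rw [MulAction.index_stabilizer, horb, Set.ncard_compl, Set.ncard_singleton] at h1
  exact h1

namespace Ctx

variable (h : Ctx ρ A B s)
include h

theorem normal_A : A.Normal := h.normal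

theorem isMulCommutative_A : IsMulCommutative A :=
  ⟨⟨fun a b => Subtype.ext (h.comm a a.2 b b.2)⟩⟩

theorem isMulCommutative_sec [A.Normal] : IsMulCommutative (Sec A B) := by
  refine ⟨⟨fun u v => ?_⟩⟩
  obtain ⟨x, rfl⟩ := QuotientGroup.mk_surjective u
  obtain ⟨y, rfl⟩ := QuotientGroup.mk_surjective v
  rw [← QuotientGroup.mk_mul, ← QuotientGroup.mk_mul, QuotientGroup.eq, Subgroup.mem_subgroupOf]
  show ((x : G) * y)⁻¹ * (y * x) ∈ A
  have e : ((x : G) * y)⁻¹ * (y * x) = ⁅(y : G)⁻¹, (x : G)⁻¹⁆ := by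
    rw [commutatorElement_def]; group
  rw [e]
  exact h.commutator_mem _ (inv_mem y.2) _ (inv_mem x.2)

theorem isMulCommutative_alg : IsMulCommutative (alg ρ A) :=
  ⟨⟨fun a b => Subtype.ext (alg_comm h.toSetting a.2 b.2)⟩⟩

theorem exists_not_commute : ∃ x ∈ B, ∃ y ∈ B, x * y ≠ y * x := by
  by_contra hne
  push Not at hne
  exact h.lt.ne (h.maximal B h.normalB h.lt.le hne).symm

variable [Nontrivial V] [A.Normal] [IsMulCommutative A] [IsMulCommutative (Sec A B)]
  [IsMulCommutative (alg ρ A)]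

theorem exists_nums : ∃ d m b, Nums q d m b s (Nat.card V) (Nat.card A) (Nat.card G)
    (Nat.card (Sec A B)) ∧ Nat.card (alg ρ A) = q ^ d ∧ Module.finrank (alg ρ A) V = m := by
  classical
  letI : Field (alg ρ A) := (isField_alg h.toSetting).toField
  have := Fact.mk h.prime
  have hp := h.isPairing
  obtain ⟨b, hb⟩ := hp.card_eq_sq
  set d := Module.finrank (ZMod q) (alg ρ A) with hd
  have hE : Nat.card (alg ρ A) = q ^ d := by
    rw [Module.natCard_eq_pow_finrank (K := ZMod q), Nat.card_zmod]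
  have hV : Nat.card V = q ^ (d * Module.finrank (alg ρ A) V) := by
    rw [Module.natCard_eq_pow_finrank (K := alg ρ A), hE, ← pow_mul]
  have hd1 : 1 ≤ d := by
    by_contra h0
    have : d = 0 := by omega
    rw [this, pow_zero] at hE
    exact absurd hE (Finite.one_lt_card (α := alg ρ A)).ne'
  obtain ⟨x, hx, y, hy, hxy⟩ := h.exists_not_commute
  have hne : h.pair (QuotientGroup.mk (⟨x, hx⟩ : B)) (QuotientGroup.mk (⟨y, hy⟩ : B)) ≠ 1 := by
    intro e
    have e' := congrArg Subtype.val e
    rw [h.pair_mk, OneMemClass.coe_one] at e'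
    exact hxy (commutatorElement_eq_one_iff_mul_comm.1 e')
  have hb1 : 1 ≤ b := by
    by_contra h0
    have : b = 0 := by omega
    rw [this, pow_zero, one_pow, Nat.card_eq_one_iff_unique] at hb
    have := hb.1
    apply hne
    rw [Subsingleton.elim (QuotientGroup.mk (⟨y, hy⟩ : B) : Sec A B) (QuotientGroup.mk (⟨x, hx⟩ : B))]
    exact h.pair_self _
  refine ⟨d, _, b, ⟨hd1, hb1, hV, hb, ?_, ?_, ?_, ?_⟩, hE, rfl⟩
  · have := h.card_le_sq
    rw [hb] at this
    exact (Nat.pow_le_pow_iff_left two_ne_zero).1 this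
  · rw [← hE, ← Nat.card_units]
    refine Subgroup.card_dvd_of_injective (MonoidHom.toHomUnits
      { toFun := fun a : A => (⟨lin ρ (a : G), lin_mem_alg a.2⟩ : alg ρ A)
        map_one' := Subtype.ext (map_one (lin ρ))
        map_mul' := fun a b => Subtype.ext (map_mul (lin ρ) (a : G) b) }) fun a b e => ?_
    exact Subtype.ext (lin_injective h.toSetting (congrArg Subtype.val (congrArg Units.val e)))
  · rw [← orderOf_eq_prime (hp.pow_value _ _) hne]
    exact orderOf_dvd_natCard _
  · rw [← hV]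
    exact card_sub_one_dvd h.toSetting

omit [IsMulCommutative (Sec A B)] [IsMulCommutative A] in
/-- An element of prime order prime to `d` centralises `A`. -/
theorem mem_centralizer_of_order {d r : ℕ} (hE : Nat.card (alg ρ A) = q ^ d) (hr : r.Prime)
    (hrd : ¬ r ∣ d) {x : G} (hx : orderOf x = r) : x ∈ Subgroup.centralizer (A : Set G) := by
  rw [← ker_sigmaHom h.toSetting, MonoidHom.mem_ker]
  letI : Field (alg ρ A) := (isField_alg h.toSetting).toField
  haveI := Fintype.ofFinite (alg ρ A)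
  haveI : Finite (alg ρ A ≃+* alg ρ A) :=
    Finite.of_injective (fun σ => (σ : alg ρ A → alg ρ A)) DFunLike.coe_injective
  have h1 : orderOf (sigmaHom h.toSetting x) ∣ r := hx ▸ orderOf_map_dvd _ x
  have h2 : orderOf (sigmaHom h.toSetting x) ∣ d := by
    rw [← CG26.card_fieldAut q d (F := alg ρ A) (by rw [← Nat.card_eq_fintype_card, hE])]
    exact orderOf_dvd_natCard _
  rcases (Nat.dvd_prime hr).1 h1 with e | e
  · exact orderOf_eq_one_iff.1 e
  · exact absurd (e ▸ h2) hrd

/-- An element of prime order either centralises `B` or is bounded. -/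
theorem prime_le_or_commute [B.Normal] {r b : ℕ} (hr : r.Prime) (hrs : r ≠ s)
    (hW : Nat.card (Sec A B) = (s ^ b) ^ 2) {x : G} (hx : orderOf x = r)
    (hxC : x ∈ Subgroup.centralizer (A : Set G)) :
    r ≤ s ^ b + 1 ∨ ∀ y ∈ B, x * y = y * x := by
  have := Fact.mk h.prime
  have := Fact.mk hr
  by_cases h1 : (secAct x : MulAut (Sec A B)) = 1
  · right
    intro y hy
    rw [secAct_eq_one_iff] at h1
    set c := ⁅y, x⁆ with hc
    have hcA : c ∈ A := h1 y hy
    have hcy : c * y = y * c := h.commute_A hcA hy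
    have hcx : Commute c x := Subgroup.mem_centralizer_iff.1 hxC c hcA
    have e : y * x * y⁻¹ = c * x := by rw [hc, commutatorElement_def]; group
    have hcr : c ^ r = 1 := by
      have h2 : (c * x) ^ r = 1 := by
        rw [← e, conj_pow, ← hx, pow_orderOf_eq_one, mul_one, mul_inv_cancel]
      rwa [hcx.mul_pow, ← hx, pow_orderOf_eq_one, mul_one, hx] at h2
    have hpow : ∀ k : ℕ, y ^ k * x * (y ^ k)⁻¹ = c ^ k * x := by
      intro k
      induction k with
      | zero => simp
      | succ k ih =>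
        have h3 : y * c ^ k = c ^ k * y := (Commute.pow_right (hcy.symm) k)
        calc y ^ (k + 1) * x * (y ^ (k + 1))⁻¹ = y * (y ^ k * x * (y ^ k)⁻¹) * y⁻¹ := by
              rw [pow_succ']; group
          _ = y * c ^ k * x * y⁻¹ := by rw [ih]; group
          _ = c ^ k * (y * x * y⁻¹) := by rw [h3]; group
          _ = c ^ (k + 1) * x := by rw [e, pow_succ, mul_assoc]
    have hcs : c ^ s = 1 := by
      have h4 := hpow s
      rw [Subgroup.mem_centralizer_iff.1 hxC _ (h.pow_mem y hy), mul_inv_cancel_right] at h4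
      exact (mul_eq_right.1 h4.symm)
    have hg : c ^ Nat.gcd r s = 1 := pow_gcd_eq_one.2 ⟨hcr, hcs⟩
    rw [(Nat.coprime_primes hr h.prime).2 hrs, pow_one, hc] at hg
    exact (commutatorElement_eq_one_iff_mul_comm.1 hg).symm
  · left
    refine h.isPairing.prime_le hrs hW (secAct x) ?_ h1 fun u v => h.pair_secAct hxC u v
    rw [← map_pow, ← hx, pow_orderOf_eq_one, map_one]

theorem primitive_bound [B.Normal] {d m b r : ℕ}
    (hN : Nums q d m b s (Nat.card V) (Nat.card A) (Nat.card G) (Nat.card (Sec A B)))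
    (hE : Nat.card (alg ρ A) = q ^ d) (hr : IsPrimitivePrimeDivisor r q (d * m)) :
    r ≤ s ^ b + 1 := by
  have hq := (Fact.out (p := q.Prime)).two_le
  have hs := h.prime.two_le
  have := Fact.mk hr.1
  have hsb : 2 ≤ s ^ b := le_trans hs (Nat.le_self_pow (by have := hN.hb; omega) s)
  have hm : 2 ≤ m := hsb.trans hN.hle
  have hdn : d < d * m := by nlinarith [hN.hd]
  have hrlt : d * m < r := hr.lt (by omega) (by omega)
  have hrA : ¬ r ∣ Nat.card A := fun e => hr.2.2 d hN.hd hdn (e.trans hN.hA)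
  have hrs : r ≠ s := fun e => hrA (e ▸ hN.hs)
  obtain ⟨x, hx⟩ := exists_prime_orderOf_dvd_card' (G := G) r (hr.2.1.trans hN.hG)
  have hxC := h.mem_centralizer_of_order hE hr.1
    (fun e => by have := Nat.le_of_dvd hN.hd e; omega) hx
  refine (h.prime_le_or_commute hr.1 hrs hN.hW hx hxC).resolve_right fun hc => ?_
  have hn : Module.finrank (ZMod q) V = d * m := by
    have h1 := hN.hV
    rw [Module.natCard_eq_pow_finrank (K := ZMod q), Nat.card_zmod] at h1
    exact Nat.pow_right_injective hq h1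
  obtain ⟨u, hu, w, hw, huw⟩ := h.exists_not_commute
  apply huw
  refine lin_injective h.toSetting ?_
  rw [map_mul, map_mul]
  refine commute_of_primitive (r := r) (hn ▸ hr) (lin ρ x) ?_ ?_ _ _ ?_ ?_
  · rw [← map_pow, ← hx, pow_orderOf_eq_one, map_one]
  · rw [← map_one (lin ρ)]
    intro e
    rw [lin_injective h.toSetting e, orderOf_one] at hx
    exact hr.1.one_lt.ne hx
  · rw [← map_mul, ← map_mul, hc u hu]
  · rw [← map_mul, ← map_mul, hc w hw]

/-- The action on a section of full size has kernel `B`. -/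
theorem secAct_ker [B.Normal] (hC : Subgroup.centralizer (A : Set G) = ⊤)
    (hcard : Nat.card (Sec A B) = Module.finrank (alg ρ A) V ^ 2) :
    (secAct : G →* MulAut (Sec A B)).ker = B := by
  refine le_antisymm (fun k hk => h.mem_B_of_act_trivial hcard (hC ▸ Subgroup.mem_top k) hk)
    fun y hy => ?_
  rw [MonoidHom.mem_ker, secAct_eq_one_iff]
  exact fun x hx => h.commutator_mem x hx y hy

theorem centralizer_eq_top {d : ℕ} (hd : d = 1) (hE : Nat.card (alg ρ A) = q ^ d) :
    Subgroup.centralizer (A : Set G) = ⊤ := by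
  rw [← ker_sigmaHom h.toSetting, MonoidHom.ker_eq_top_iff]
  letI : Field (alg ρ A) := (isField_alg h.toSetting).toField
  haveI := Fintype.ofFinite (alg ρ A)
  have hc := CG26.card_fieldAut q d (F := alg ρ A) (by rw [← Nat.card_eq_fintype_card, hE])
  rw [hd, Nat.card_eq_one_iff_unique] at hc
  have := hc.1
  exact MonoidHom.ext fun g => Subsingleton.elim _ _

theorem card_G [B.Normal] (hC : Subgroup.centralizer (A : Set G) = ⊤)
    (hcard : Nat.card (Sec A B) = Module.finrank (alg ρ A) V ^ 2) :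
    Nat.card G = Nat.card (secAct : G →* MulAut (Sec A B)).range *
      (Nat.card (Sec A B) * Nat.card A) := by
  have h1 := Subgroup.card_eq_card_quotient_mul_card_subgroup (secAct : G →* MulAut (Sec A B)).ker
  rw [Nat.card_congr (QuotientGroup.quotientKerEquivRange _).toEquiv, h.secAct_ker hC hcard] at h1
  rw [h1, Subgroup.card_eq_card_quotient_mul_card_subgroup (A.subgroupOf B),
    Nat.card_congr (Subgroup.subgroupOfEquivOfLe h.lt.le).toEquiv]

omit [Nontrivial V] [IsMulCommutative A] [IsMulCommutative (alg ρ A)] in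
/-- Automorphisms of a section of order four. -/
theorem card_mulAut_dvd_six {W : Type*} [Group W] [Finite W] (hW : Nat.card W = 4) (U : Subgroup (MulAut W)) :
    Nat.card U ∣ 6 := by
  classical
  let W' := {w : W // w ≠ 1}
  let φ : MulAut W →* Equiv.Perm W' := MonoidHom.mk'
    (fun x => Equiv.subtypeEquiv x.toEquiv fun w => (MulEquiv.map_ne_one_iff x).symm)
    fun x y => Equiv.ext fun w => Subtype.ext rfl
  have hinj : Function.Injective φ := by
    intro x y e
    refine MulEquiv.ext fun w => ?_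
    by_cases hw : w = 1
    · rw [hw, map_one, map_one]
    · exact congrArg Subtype.val (Equiv.ext_iff.1 e ⟨w, hw⟩)
  have h3 : Nat.card W' = 3 := by
    have := Nat.card_congr (Equiv.sumCompl (fun w : W => w = 1))
    rw [Nat.card_sum, Nat.card_unique, hW] at this
    show Nat.card {w : W // ¬ w = 1} = 3
    omega
  refine (Subgroup.card_dvd_of_injective (φ.comp U.subtype)
    (hinj.comp Subtype.val_injective)).trans ?_
  rw [Nat.card_perm, h3]
  rfl

/-- A full section in dimension two. -/
theorem two_dim {d m b : ℕ}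
    (hN : Nums q d m b s (Nat.card V) (Nat.card A) (Nat.card G) (Nat.card (Sec A B)))
    (hn : d * m = 2) : d = 1 ∧ m = 2 ∧ s = 2 ∧ b = 1 ∧ Nat.card (Sec A B) = 4 := by
  have hs := h.prime.two_le
  have hsb : 2 ≤ s ^ b := le_trans hs (Nat.le_self_pow (by have := hN.hb; omega) s)
  have := hN.hle
  have := hN.hd
  have hm : m = 2 := by
    have : m ≤ d * m := Nat.le_mul_of_pos_left m (by omega)
    omega
  subst hm
  have hd : d = 1 := by omega
  have hs2 : s = 2 := le_antisymm ((Nat.le_self_pow (by have := hN.hb; omega) s).trans hN.hle) hs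
  subst hs2
  have hb : b = 1 := by
    have h2 : 2 ^ b ≤ 2 ^ 1 := hN.hle
    have := (Nat.pow_le_pow_iff_right (by norm_num)).1 h2
    have := hN.hb
    omega
  subst hb
  exact ⟨hd, rfl, rfl, rfl, hN.hW.trans (by norm_num)⟩

end Ctx

namespace Ctx

variable [Nontrivial V] [A.Normal] [IsMulCommutative A] [IsMulCommutative (Sec A B)]
  [IsMulCommutative (alg ρ A)]

/-- The four-dimensional case. -/
theorem four_dim [B.Normal] (h : Ctx ρ A B 2)
    (hN : Nums q 1 4 2 2 (Nat.card V) (Nat.card A) (Nat.card G) (Nat.card (Sec A B)))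
    (hE : Nat.card (alg ρ A) = q ^ 1) (hC : Subgroup.centralizer (A : Set G) = ⊤)
    (hfull : Nat.card (Sec A B) = Module.finrank (alg ρ A) V ^ 2) : Nat.card V = 81 := by
  have hq := (Fact.out (p := q.Prime)).two_le
  have hAq : Nat.card A ∣ q - 1 := by simpa using hN.hA
  have hodd : q % 2 = 1 := by
    have : 2 ∣ q - 1 := hN.hs.trans hAq
    omega
  have h5 : Fact (Nat.Prime 5) := ⟨by norm_num⟩
  have hdvdG : q ^ 2 + 1 ∣ Nat.card G := by
    refine dvd_trans ⟨q ^ 2 - 1, ?_⟩ hN.hG
    rw [← Nat.sq_sub_sq, one_pow, ← pow_mul]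
  have hprimes : ∀ l : ℕ, l.Prime → l ≠ 2 → l ∣ q ^ 2 + 1 →
      IsPrimitivePrimeDivisor l q 4 := by
    intro l hl hl2 hd'
    have := Fact.mk hl
    rw [isPrimitivePrimeDivisor_iff hl (by omega) (by norm_num)]
    have hq2 : (q : ZMod l) ^ 2 = -1 := by
      have h0 : ((q ^ 2 + 1 : ℕ) : ZMod l) = 0 := (ZMod.natCast_eq_zero_iff _ _).2 hd'
      push_cast at h0
      linear_combination h0
    refine orderOf_eq_prime_pow (p := 2) (n := 1) ?_ ?_
    · rw [pow_one, hq2]
      intro e
      have h2 : ((2 : ℕ) : ZMod l) = 0 := by push_cast; linear_combination -e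
      rw [ZMod.natCast_eq_zero_iff] at h2
      exact hl2 ((Nat.prime_dvd_prime_iff_eq hl Nat.prime_two).1 h2)
    · rw [show 2 ^ (1 + 1) = 2 * 2 by norm_num, pow_mul, hq2, neg_one_sq]
  have hfive : ∀ l : ℕ, l.Prime → l ≠ 2 → l ∣ q ^ 2 + 1 → l = 5 := by
    intro l hl hl2 hd'
    have h1 := h.primitive_bound hN hE (by rw [one_mul]; exact hprimes l hl hl2 hd')
    have h2 := (hprimes l hl hl2 hd').lt (by omega) (by norm_num)
    norm_num at h1
    omega
  have h25 : ¬ 25 ∣ q ^ 2 + 1 := by
    intro h25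
    have hA5 : ¬ 5 ∣ Nat.card A := fun e => (hprimes 5 (by norm_num) (by norm_num)
      (dvd_trans (by norm_num) h25)).2.2 1 one_pos (by norm_num) (by simpa using e.trans hAq)
    obtain ⟨P, hP⟩ := Sylow.exists_subgroup_card_pow_prime (G := G) (p := 5) (n := 2)
      (by norm_num; exact h25.trans hdvdG)
    have hW : Nat.card (Sec A B) = 16 := by rw [hN.hW]; norm_num
    have hfix : ∀ y ∈ P, orderOf y = 5 → ∀ w : Sec A B, secAct y w = w → w = 1 := by
      intro y hyP hy w hw
      refine (h.isPairing).fixed_eq_one_of_five rfl hW (secAct y) ?_ ?_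
        (fun u v => h.pair_secAct (hC ▸ Subgroup.mem_top y) u v) hw
      · rw [← map_pow, ← hy, pow_orderOf_eq_one, map_one]
      · intro e
        have hyB := h.mem_B_of_act_trivial hfull (hC ▸ Subgroup.mem_top y) e
        have h1 : y ^ 2 ∈ A := h.pow_mem y hyB
        have h2 := Subgroup.orderOf_dvd_natCard A h1
        rw [Nat.Coprime.orderOf_pow (by rw [hy]; norm_num), hy] at h2
        exact hA5 h2
    let act : MulAction P (Sec A B) :=
      MulAction.compHom _ ((secAct : G →* MulAut (Sec A B)).comp P.subtype)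
    obtain ⟨w, hw⟩ : ∃ w : Sec A B, w ≠ 1 := by
      have : Nontrivial (Sec A B) := Finite.one_lt_card_iff_nontrivial.1 (by omega)
      exact exists_ne 1
    have hfree : MulAction.stabilizer P w = ⊥ := by
      rw [Subgroup.eq_bot_iff_forall]
      intro y hy
      by_contra hy1
      obtain ⟨k, -, hk⟩ := (Nat.dvd_prime_pow (by norm_num : Nat.Prime 5)).1
        (hP ▸ orderOf_dvd_natCard y : orderOf y ∣ 5 ^ 2)
      rcases k with _ | k
      · rw [pow_zero, orderOf_eq_one_iff] at hk; exact hy1 hk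
      have hz : orderOf (y ^ 5 ^ k) = 5 := by
        rw [orderOf_pow' _ (by positivity), hk, Nat.gcd_eq_right (Nat.pow_dvd_pow _ (Nat.le_succ k)),
          pow_succ', Nat.mul_div_cancel _ (by positivity)]
      have hstab : y ^ 5 ^ k ∈ MulAction.stabilizer P w := _root_.pow_mem hy _
      generalize y ^ 5 ^ k = z at hz hstab
      have hfixw : secAct (z : G) w = w := MulAction.mem_stabilizer_iff.1 hstab
      exact hw (hfix (z : G) z.2 ((Subgroup.orderOf_coe z).trans hz) w hfixw)
    have horb := (MulAction.stabilizer P w).index_mul_card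
    rw [MulAction.index_stabilizer, hfree, Subgroup.card_bot, mul_one, hP] at horb
    have hle16 : (MulAction.orbit P w).ncard ≤ 16 := hW ▸ Set.ncard_le_card _
    omega
  have hq3 : q ^ 2 + 1 = 10 := by
    obtain ⟨k, u, hu, hk⟩ := Nat.exists_eq_pow_mul_and_not_dvd (show q ^ 2 + 1 ≠ 0 by omega) 5 (by norm_num)
    have hk1 : k ≤ 1 := by
      by_contra hk2
      exact h25 (hk ▸ dvd_mul_of_dvd_left (Nat.pow_dvd_pow 5 (show 2 ≤ k by omega)) u)
    have hu2 : ∀ l : ℕ, l.Prime → l ∣ u → l = 2 := fun l hl hlu => by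
      by_contra hl2
      exact hu (hfive l hl hl2 (hk ▸ dvd_mul_of_dvd_right hlu _) ▸ hlu)
    have hu4 : ¬ 4 ∣ u := by
      intro h4
      have h4' : 4 ∣ q ^ 2 + 1 := hk ▸ dvd_mul_of_dvd_right h4 _
      obtain ⟨t, ht⟩ : ∃ t, q = 2 * t + 1 := ⟨q / 2, by omega⟩
      rw [ht, show (2 * t + 1) ^ 2 + 1 = 4 * (t * t + t) + 2 by ring] at h4'
      omega
    obtain ⟨j, hj⟩ : ∃ j, u = 2 ^ j :=
      ⟨_, Nat.eq_prime_pow_of_unique_prime_dvd (by rintro rfl; omega) fun {l} hl hlu => hu2 l hl hlu⟩
    have hj1 : j ≤ 1 := by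
      by_contra hj2
      exact hu4 (hj ▸ (Nat.pow_dvd_pow 2 (show 2 ≤ j by omega)))
    subst hj
    have h9 : 9 ≤ q ^ 2 := Nat.pow_le_pow_left (show 3 ≤ q by omega) 2
    interval_cases k <;> interval_cases j <;> omega
  have hq9 : q ^ 2 = 3 ^ 2 := by omega
  obtain rfl := Nat.pow_left_injective two_ne_zero hq9
  rw [hN.hV]; norm_num

/-- There are no higher dimensions. -/
theorem no_higher [B.Normal] (h : Ctx ρ A B 2) {m b r : ℕ}
    (hN : Nums q 1 m b 2 (Nat.card V) (Nat.card A) (Nat.card G) (Nat.card (Sec A B)))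
    (hC : Subgroup.centralizer (A : Set G) = ⊤) (hr : IsPrimitivePrimeDivisor r q m)
    (hfull : Nat.card (Sec A B) = Module.finrank (alg ρ A) V ^ 2)
    (hsm : 2 ^ b = m) (hrm : r = m + 1) (hb : 2 < b) : False := by
  have hq := (Fact.out (p := q.Prime)).two_le
  obtain ⟨b', rfl⟩ : ∃ b', b = b' + 1 := ⟨b - 1, by omega⟩
  have hn' : 4 ≤ 2 ^ b' := le_trans (by norm_num) (Nat.pow_le_pow_right two_pos (show 2 ≤ b' by omega))
  obtain ⟨r', hr'⟩ := exists_isPrimitivePrimeDivisor (a := q) (n := 2 ^ b') (by omega) (by omega)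
    (fun e => by
      have h3 : 3 ∣ 2 ^ b' := by rw [e.2]; norm_num
      have := Nat.le_of_dvd two_pos (Nat.Prime.dvd_of_dvd_pow (by norm_num) h3)
      omega) (fun e => by omega)
  have hr'lt : 2 ^ b' < r' := hr'.lt (by omega) (by omega)
  have hm2 : m = 2 * 2 ^ b' := by rw [← hsm, pow_succ']
  have hr'A : ¬ r' ∣ Nat.card A := fun e =>
    hr'.2.2 1 one_pos (by omega) (e.trans hN.hA)
  have hdvd : r' ∣ q ^ m - 1 :=
    (hr'.dvd_pow_sub_one_iff' (by omega) (by omega)).2 ⟨2, by rw [hm2, mul_comm]⟩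
  have := Fact.mk hr'.1
  obtain ⟨x, hx⟩ := exists_prime_orderOf_dvd_card' (G := G) r' (hdvd.trans (by simpa using hN.hG))
  have hxC : x ∈ Subgroup.centralizer (A : Set G) := hC ▸ Subgroup.mem_top x
  have hne2 : r' ≠ 2 := by omega
  rcases h.prime_le_or_commute hr'.1 hne2 hN.hW hx hxC with h1 | h1
  · obtain ⟨k, hk⟩ := hr'.dvd_sub_one (by omega) (by omega)
    rw [hsm, hm2] at h1
    have hk2 : k ≤ 2 := by
      by_contra hk3
      have : 2 ^ b' * 3 ≤ 2 ^ b' * k := Nat.mul_le_mul_left _ (by omega)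
      omega
    interval_cases k
    · omega
    · -- consecutive exponents
      have hr'e : r' = 2 ^ b' + 1 := by omega
      have hre : r = 2 ^ (b' + 1) + 1 := by omega
      have key : ∀ e : ℕ, Odd e → 3 ≤ e → (2 ^ e + 1).Prime → False := by
        intro e he he3 hp
        have h3 : 3 ∣ 2 ^ e + 1 := by
          rw [← ZMod.natCast_eq_zero_iff, Nat.cast_add, Nat.cast_pow, Nat.cast_one,
            show ((2 : ℕ) : ZMod 3) = -1 by decide, he.neg_one_pow, neg_add_cancel]
        have := (Nat.prime_dvd_prime_iff_eq (by norm_num) hp).1 h3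
        have : 2 ^ 3 ≤ 2 ^ e := Nat.pow_le_pow_right two_pos he3
        omega
      rcases Nat.even_or_odd b' with he | ho
      · exact key (b' + 1) he.add_one (by omega) (hre ▸ hr.1)
      · exact key b' ho (by obtain ⟨t, ht⟩ := ho; omega) (hr'e ▸ hr'.1)
    · have : r' = r := by omega
      exact hr.2.2 (2 ^ b') (by omega) (by omega) (this ▸ hr'.2.1)
  · have hxA := h.mem_of_commute_all hfull hxC h1
    exact hr'A (hx ▸ Subgroup.orderOf_dvd_natCard A hxA)

variable (h : Ctx ρ A B s)
include h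

theorem card_cases [B.Normal] :
    (Nat.card V = 81) ∨ (Nat.card V = q ^ 2 ∧ (q = 3 ∨ q = 5 ∨ q = 7 ∨ q = 11 ∨ q = 23)) := by
  classical
  obtain ⟨d, m, b, hN, hE, hmE⟩ := h.exists_nums
  have hq := (Fact.out (p := q.Prime)).two_le
  have hs := h.prime.two_le
  have hsb : 2 ≤ s ^ b := le_trans hs (Nat.le_self_pow (by have := hN.hb; omega) s)
  have hm : 2 ≤ m := hsb.trans hN.hle
  have hd := hN.hd
  by_cases hn2 : d * m = 2
  · right
    obtain ⟨hd1, hm2, hs2, -, hW4⟩ := h.two_dim hN hn2
    subst hd1 hm2 hs2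
    refine ⟨by rw [hN.hV, one_mul], ?_⟩
    have hG := h.card_G (h.centralizer_eq_top rfl hE) (by rw [hW4, hmE]; norm_num)
    have h6 := card_mulAut_dvd_six (ρ := ρ) h hW4 (secAct : G →* MulAut (Sec A B)).range
    have h24 : Nat.card G ∣ 24 * (q - 1) := by
      rw [hG, hW4, show 24 * (q - 1) = 6 * (4 * (q - 1)) by ring]
      exact mul_dvd_mul h6 (mul_dvd_mul_left 4 (by simpa using hN.hA))
    have h1 : (q + 1) * (q - 1) ∣ 24 * (q - 1) := by
      rw [← Nat.sq_sub_sq, one_pow]
      exact (by simpa using hN.hG : q ^ 2 - 1 ∣ Nat.card G).trans h24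
    have hq24 : q + 1 ∣ 24 := (Nat.mul_dvd_mul_iff_right (by omega)).1 h1
    have hq2 : q ≠ 2 := by
      rintro rfl
      have : 2 ∣ 2 ^ 1 - 1 := hN.hs.trans hN.hA
      norm_num at this
    have hle := Nat.le_of_dvd (by norm_num) hq24
    have hqp := (Fact.out (p := q.Prime))
    have : q ≤ 23 := by omega
    interval_cases q <;> first | omega | (revert hqp; norm_num)
  by_cases h26 : q = 2 ∧ d * m = 6
  · exfalso
    obtain ⟨rfl, hn6⟩ := h26
    have := Fact.mk (show Nat.Prime 7 by norm_num)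
    have hdvd7 : 7 ∣ Nat.card G := dvd_trans (by rw [hn6]; norm_num) hN.hG
    obtain ⟨x, hx⟩ := exists_prime_orderOf_dvd_card' (G := G) 7 hdvd7
    have hd3 : d ≤ 3 := by nlinarith
    have hAd := hN.hs.trans hN.hA
    interval_cases d
    · norm_num at hAd
      omega
    · obtain rfl : s = 3 := by
        norm_num at hAd
        exact ((Nat.dvd_prime (by norm_num)).1 hAd).resolve_left (by omega)
      have hxC := h.mem_centralizer_of_order hE (r := 7) (by norm_num) (by norm_num) hx
      have hm3 : m = 3 := by omega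
      subst hm3
      have hb : b = 1 := by
        have := (Nat.pow_le_pow_iff_right (show 1 < 3 by norm_num)).1
          (show 3 ^ b ≤ 3 ^ 1 from hN.hle)
        have := hN.hb
        omega
      subst hb
      rcases h.prime_le_or_commute (r := 7) (by norm_num) (by norm_num) hN.hW hx hxC with h7 | hc
      · norm_num at h7
      · have hxA := h.mem_of_commute_all (by rw [hN.hW, hmE]; norm_num) hxC hc
        have h7 : 7 ∣ 3 := by
          have h1 := Subgroup.orderOf_dvd_natCard A hxA
          rw [hx] at h1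
          exact h1.trans (hN.hA.trans (by norm_num))
        norm_num at h7
    · obtain rfl : s = 7 := by
        norm_num at hAd
        exact ((Nat.dvd_prime (by norm_num)).1 hAd).resolve_left (by omega)
      have hm2 : m = 2 := by omega
      have : 7 ≤ 7 ^ b := Nat.le_self_pow (by have := hN.hb; omega) 7
      have := hN.hle
      omega
  obtain ⟨r, hr⟩ := exists_isPrimitivePrimeDivisor (a := q) (n := d * m) (by omega)
    (by nlinarith) h26 fun e => hn2 e.1
  have hrle := h.primitive_bound hN hE hr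
  have hrlt : d * m < r := hr.lt (by omega) (by nlinarith)
  have hle := hN.hle
  have hdm : m ≤ d * m := Nat.le_mul_of_pos_left m (by omega)
  have hd1 : d = 1 := by nlinarith
  subst hd1
  rw [one_mul] at *
  have hsm : s ^ b = m := by omega
  have hrm : r = m + 1 := by omega
  have hs2 : s = 2 := by
    rcases hr.1.eq_two_or_odd with h2 | h2
    · omega
    · have h2dvd : 2 ∣ s ^ b := by omega
      exact ((Nat.prime_dvd_prime_iff_eq Nat.prime_two h.prime).1
        (Nat.prime_two.dvd_of_dvd_pow h2dvd)).symm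
  subst hs2
  have hC := h.centralizer_eq_top rfl hE
  have hfull : Nat.card (Sec A B) = Module.finrank (alg ρ A) V ^ 2 := by rw [hN.hW, hsm, hmE]
  have hb2 : 2 ≤ b := by
    by_contra hb
    have : b = 1 := by have := hN.hb; omega
    subst this
    exact hn2 (by simpa using hsm.symm)
  rcases hb2.eq_or_lt with hb | hb
  · left
    subst hb
    obtain rfl : m = 4 := by simpa using hsm.symm
    exact four_dim h hN hE hC hfull
  · exact (no_higher h hN hC hr hfull hsm hrm hb).elim

end Ctx

/-- Huppert's theorem, with the context kept for the refinements. -/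
theorem semilinear_or_exceptional [Nontrivial V] (hsol : Group.IsSolvable G)
    (hinj : Function.Injective ρ)
    (htrans : ∀ v w : V, v ≠ 0 → w ≠ 0 → ∃ g : G, ρ g v = w) :
    (∃ (F : Type) (_ : Field F) (_ : Fintype F) (e : V ≃+ F),
      ∀ g : G, ∃ (a : F) (σ : F ≃+* F), ∀ v : V, e (ρ g v) = a * σ (e v)) ∨
    (∃ (A B : Subgroup G) (s : ℕ), Ctx ρ A B s) ∧
      ((Nat.card V = 81) ∨ (Nat.card V = q ^ 2 ∧ (q = 3 ∨ q = 5 ∨ q = 7 ∨ q = 11 ∨ q = 23))) := by
  rcases semilinear_or_ctx hsol hinj htrans with h | ⟨A, B, s, h⟩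
  · exact Or.inl h
  · have := h.normal
    have := h.normalB
    have := h.isMulCommutative_A
    have := h.isMulCommutative_sec
    have := h.isMulCommutative_alg
    exact Or.inr ⟨⟨A, B, s, h⟩, h.card_cases⟩

end Cfsg.Agent.Huppert69
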