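import Cfsg.Agent.Huppert69.Main
import Cfsg.Agent.ZStar.SL23Section

/-!
Solvable linear groups regular on the non-zero vectors: semilinear or of order 24, 48, 120, 528;
in odd characteristic a normal subgroup of index two, up to two exceptions.
-/

namespace Cfsg.Agent.Huppert69

open scoped commutatorElement IsMulCommutative
open Cfsg.Agent.NumberTheory

/-- A homomorphism onto an abelian group of even order gives a subgroup of index two. -/
theorem exists_index_two {G M : Type*} [Group G] [CommGroup M] [Finite M] (f : G →* M)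
    (hf : Function.Surjective f) (h2 : 2 ∣ Nat.card M) :
    ∃ N : Subgroup G, N.Normal ∧ N.index = 2 := by
  have := Fact.mk Nat.prime_two
  set S := (powMonoidHom 2 : M →* M).range with hS
  have hexp : ∀ u : M ⧸ S, u ^ 2 = 1 := fun u => by
    obtain ⟨y, rfl⟩ := QuotientGroup.mk_surjective u
    rw [← QuotientGroup.mk_pow, QuotientGroup.eq_one_iff]
    exact ⟨y, rfl⟩
  have hne : Nat.card (M ⧸ S) ≠ 1 := by
    rw [← Subgroup.index_eq_card, Ne, Subgroup.index_eq_one]
    intro e
    obtain ⟨z, hz⟩ := exists_prime_orderOf_dvd_card' (G := M) 2 h2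
    have hsurj : Function.Surjective (powMonoidHom 2 : M →* M) := MonoidHom.range_eq_top.1 e
    have hinj := Finite.injective_iff_surjective.2 hsurj
    have : z = 1 := hinj (show z ^ 2 = 1 ^ 2 by rw [one_pow, ← hz, pow_orderOf_eq_one])
    rw [this, orderOf_one] at hz
    norm_num at hz
  obtain ⟨k, hk⟩ := IsPGroup.iff_card.1
    (fun u => ⟨1, by rw [pow_one]; exact hexp u⟩ : IsPGroup 2 (M ⧸ S))
  obtain ⟨k, rfl⟩ : ∃ j, k = j + 1 := ⟨k - 1, by rcases k with _ | k <;> simp_all⟩
  obtain ⟨K, hK⟩ := Sylow.exists_subgroup_card_pow_prime (G := M ⧸ S) 2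
    (show 2 ^ k ∣ Nat.card (M ⧸ S) by rw [hk]; exact Nat.pow_dvd_pow 2 k.le_succ)
  have hKi : K.index = 2 := by
    have h1 := K.card_mul_index
    rw [hK, hk, pow_succ] at h1
    exact Nat.eq_of_mul_eq_mul_left (by positivity) h1
  refine ⟨(K.comap (QuotientGroup.mk' S)).comap f, inferInstance, ?_⟩
  rw [Subgroup.index_comap_of_surjective _ hf,
    Subgroup.index_comap_of_surjective _ (QuotientGroup.mk'_surjective S), hKi]

variable {q : ℕ} [Fact q.Prime] {V : Type*} [AddCommGroup V] [Module (ZMod q) V] [Finite V]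
variable {G : Type*} [Group G] [Finite G]
variable {ρ : G →* (V ≃ₗ[ZMod q] V)}

/-- A regular group has order `|V| - 1`. -/
theorem card_of_regular [Nontrivial V]
    (htrans : ∀ v w : V, v ≠ 0 → w ≠ 0 → ∃ g : G, ρ g v = w)
    (hreg : ∀ v : V, v ≠ 0 → ∀ g : G, ρ g v = v → g = 1) : Nat.card G = Nat.card V - 1 := by
  classical
  obtain ⟨v₀, hv₀⟩ := exists_ne (0 : V)
  have e : G ≃ {v : V // ¬ v = 0} := Equiv.ofBijective (fun g => ⟨ρ g v₀, by simpa using hv₀⟩)
    ⟨fun a b h => by
      have h' : ρ a v₀ = ρ b v₀ := congrArg Subtype.val h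
      have h1 : ρ (b⁻¹ * a) v₀ = v₀ := by
        rw [map_mul, LinearEquiv.mul_apply, h', ← LinearEquiv.mul_apply, ← map_mul, inv_mul_cancel,
          map_one]
        rfl
      exact (inv_mul_eq_one.1 (hreg v₀ hv₀ _ h1)).symm,
     fun w => (htrans v₀ w hv₀ w.2).elim fun g hg => ⟨g, Subtype.ext hg⟩⟩
  have := Nat.card_congr (Equiv.sumCompl (fun v : V => v = 0))
  rw [Nat.card_sum, Nat.card_unique, ← Nat.card_congr e] at this
  omega

/-- An element squaring to one acts as minus one. -/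
theorem eq_of_sq_eq_one (hinj : Function.Injective ρ)
    (hreg : ∀ v : V, v ≠ 0 → ∀ g : G, ρ g v = v → g = 1) {g h : G} (hg : g * g = 1) (hh : h * h = 1)
    (hg1 : g ≠ 1) (hh1 : h ≠ 1) : g = h := by
  have key : ∀ x : G, x * x = 1 → x ≠ 1 → ∀ v, ρ x v = -v := by
    intro x hx hx1 v
    have h2 : ρ x (ρ x v + v) = ρ x v + v := by
      rw [map_add, ← LinearEquiv.mul_apply, ← map_mul, hx, map_one, add_comm]
      rfl
    by_contra hne
    exact hx1 (hreg _ (fun e => hne (eq_neg_of_add_eq_zero_left e)) x h2)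
  exact hinj (LinearEquiv.ext fun v => by rw [key g hg hg1, key h hh hh1])

/-- A semilinear group of even order has a normal subgroup of index two. -/
theorem exists_index_two_of_semilinear [Nontrivial V] (hinj : Function.Injective ρ)
    {F : Type} [Field F] [Fintype F] (e : V ≃+ F)
    (hF : ∀ g : G, ∃ (a : F) (σ : F ≃+* F), ∀ v : V, e (ρ g v) = a * σ (e v))
    (heven : 2 ∣ Nat.card G) : ∃ N : Subgroup G, N.Normal ∧ N.index = 2 := by
  classical
  choose a σ hσ using hF
  have ha : ∀ g, a g ≠ 0 := by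
    intro g h0
    have h1 := hσ g (e.symm 1)
    rw [h0, zero_mul, AddEquiv.map_eq_zero_iff, LinearEquiv.map_eq_zero_iff,
      AddEquiv.map_eq_zero_iff] at h1
    exact one_ne_zero h1
  have ha1 : ∀ g, e (ρ g (e.symm 1)) = a g := fun g => by
    rw [hσ, e.apply_symm_apply, map_one, mul_one]
  have hσeq : ∀ g (a' : F) (σ' : F ≃+* F), (∀ v, e (ρ g v) = a' * σ' (e v)) → σ g = σ' := by
    intro g a' σ' h
    have h1 : a' = a g := by rw [← ha1 g, h, e.apply_symm_apply, map_one, mul_one]
    refine RingEquiv.ext fun x => mul_left_cancel₀ (ha g) ?_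
    have h2 := h (e.symm x)
    rw [hσ, h1, e.apply_symm_apply] at h2
    exact h2
  let S : G →* (F ≃+* F) := MonoidHom.mk' σ fun g k => hσeq (g * k) (a g * σ g (a k)) _ fun v => by
    rw [map_mul, LinearEquiv.mul_apply, hσ, hσ, map_mul, mul_assoc]
    rfl
  haveI : Finite (F ≃+* F) := Finite.of_injective (fun f => (f : F → F)) DFunLike.coe_injective
  have hab : ∀ f₁ f₂ : F ≃+* F, f₁ * f₂ = f₂ * f₁ := by
    intro f₁ f₂
    obtain ⟨γ, hγ⟩ := IsCyclic.exists_generator (α := Fˣ)
    have key : ∀ f : F ≃+* F, ∃ k : ℤ, ∀ u : Fˣ, f u = ((u ^ k : Fˣ) : F) := by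
      intro f
      obtain ⟨k, hk⟩ := hγ (Units.map (f : F →* F) γ)
      refine ⟨k, fun u => ?_⟩
      obtain ⟨j, rfl⟩ := hγ u
      show ((Units.map (f : F →* F) (γ ^ j) : Fˣ) : F) = _
      rw [map_zpow]
      simp only at hk
      rw [← hk, ← zpow_mul, ← zpow_mul, mul_comm]
    obtain ⟨k₁, h₁⟩ := key f₁
    obtain ⟨k₂, h₂⟩ := key f₂
    refine RingEquiv.ext fun x => ?_
    by_cases hx : x = 0
    · rw [hx, map_zero, map_zero]
    · obtain ⟨u, rfl⟩ : IsUnit x := isUnit_iff_ne_zero.2 hx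
      show f₁ (f₂ u) = f₂ (f₁ u)
      rw [h₂, h₁, h₁, h₂, ← zpow_mul, ← zpow_mul, mul_comm]
  letI : CommGroup S.range :=
    { (inferInstance : Group S.range) with mul_comm := fun x y => Subtype.ext (hab x y) }
  by_cases hU : 2 ∣ Nat.card S.range
  · exact exists_index_two S.rangeRestrict S.rangeRestrict_surjective hU
  -- the kernel consists of multiplications, so the Sylow `2`-subgroup is cyclic
  let j : S.ker →* F :=
    { toFun := fun g => a (g : G)
      map_one' := by
        rw [← ha1, OneMemClass.coe_one, map_one]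
        exact e.apply_symm_apply 1
      map_mul' := fun g k => by
        have hg : σ (g : G) = 1 := g.2
        rw [← ha1, Subgroup.coe_mul, map_mul, LinearEquiv.mul_apply, hσ, ha1, hg]
        rfl }
  have hjinj : Function.Injective j := by
    intro g k hgk
    refine Subtype.ext (hinj (LinearEquiv.ext fun v => e.injective ?_))
    rw [hσ, hσ, show σ (g : G) = 1 from g.2, show σ (k : G) = 1 from k.2]
    exact congrArg (· * _) hgk
  haveI : IsCyclic S.ker := isCyclic_of_injective_ringHom j hjinj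
  haveI := Fact.mk Nat.prime_two
  set P : Sylow 2 G := default
  have hP : (P : Subgroup G) ≤ S.ker := by
    intro g hg
    obtain ⟨k, hk⟩ := IsPGroup.iff_orderOf.1 P.isPGroup' ⟨g, hg⟩
    rw [← Subgroup.orderOf_coe] at hk
    have h1 : orderOf (S.rangeRestrict g) ∣ 2 ^ k := hk ▸ orderOf_map_dvd _ g
    have h2 : orderOf (S.rangeRestrict g) ∣ Nat.card S.range := orderOf_dvd_natCard _
    have h3 : orderOf (S.rangeRestrict g) ∣ 1 :=
      Nat.Coprime.gcd_eq_one ((Nat.prime_two.coprime_iff_not_dvd.2 hU).pow_left k) ▸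
        Nat.dvd_gcd h1 h2
    exact congrArg Subtype.val (orderOf_eq_one_iff.1 (Nat.dvd_one.1 h3))
  have hPc : IsCyclic (P : Subgroup G) :=
    isCyclic_of_injective (Subgroup.inclusion hP) (Subgroup.inclusion_injective hP)
  have hmin : (Nat.card G).minFac = 2 := (Nat.minFac_eq_two_iff _).2 heven
  have hc := IsCyclic.isComplement' hmin hPc
  have hsurj : Function.Surjective (MonoidHom.transferSylow P (hPc.normalizer_le_centralizer hmin)) := by
    rw [← MonoidHom.range_eq_top]
    refine Subgroup.eq_top_of_card_eq _ ?_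
    rw [← hc.symm.index_eq_card, ← Subgroup.index_ker]
  letI : CommGroup (P : Subgroup G) := IsCyclic.commGroup
  exact exists_index_two _ hsurj (P.dvd_card_of_dvd_card heven)

namespace Ctx

variable {A B : Subgroup G} {s : ℕ} (h : Ctx ρ A B s) [Nontrivial V] [A.Normal] [B.Normal]
  [IsMulCommutative A] [IsMulCommutative (Sec A B)] [IsMulCommutative (alg ρ A)]
include h

omit [Nontrivial V] [IsMulCommutative A] [IsMulCommutative (alg ρ A)] in
/-- No non-trivial element of a section of order four is fixed by the whole group. -/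
theorem secAct_moves (hC : Subgroup.centralizer (A : Set G) = ⊤) (hW : Nat.card (Sec A B) = 4)
    {w : Sec A B} (hfix : ∀ g : G, secAct g w = w) : w = 1 := by
  have := Fact.mk h.prime
  by_contra hw
  obtain ⟨x, rfl⟩ := QuotientGroup.mk_surjective w
  set K := A ⊔ Subgroup.zpowers (x : G) with hK
  have hxK : (x : G) ∈ K := Subgroup.mem_sup_right (Subgroup.mem_zpowers _)
  have hKn : K.Normal := by
    constructor
    intro z hz g
    have hle : K ≤ K.comap (MulAut.conj g).toMonoidHom := by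
      refine sup_le (fun a ha => Subgroup.mem_sup_left (h.normal.conj_mem a ha g)) ?_
      rw [Subgroup.zpowers_le]
      show g * (x : G) * g⁻¹ ∈ K
      have h1 := hfix g
      rw [secAct_mk, QuotientGroup.eq, Subgroup.mem_subgroupOf] at h1
      have h2 : (g * (x : G) * g⁻¹)⁻¹ * x ∈ A := h1
      have h3 : g * (x : G) * g⁻¹ = x * ((g * (x : G) * g⁻¹)⁻¹ * x)⁻¹ := by group
      rw [h3]
      exact mul_mem hxK (inv_mem (Subgroup.mem_sup_left h2))
    exact hle hz
  have hKB : K ≤ B := sup_le h.lt.le (Subgroup.zpowers_le.2 x.2)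
  have hKc : ∀ a ∈ K, ∀ b ∈ K, a * b = b * a := by
    have h1 : K ≤ Subgroup.centralizer (K : Set G) := by
      have hA : A ≤ Subgroup.centralizer (K : Set G) := fun a ha =>
        Subgroup.mem_centralizer_iff.2 fun b hb => (h.commute_A ha (hKB hb)).symm
      have hx : (x : G) ∈ Subgroup.centralizer (K : Set G) := by
        rw [Subgroup.mem_centralizer_iff]
        have hle : K ≤ Subgroup.centralizer ({(x : G)} : Set G) := by
          refine sup_le (fun a ha => ?_) ?_
          · rw [Subgroup.mem_centralizer_singleton_iff]; exact h.commute_A ha x.2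
          · rw [Subgroup.zpowers_le, Subgroup.mem_centralizer_singleton_iff]
        exact fun b hb => Subgroup.mem_centralizer_singleton_iff.1 (hle hb)
      exact sup_le hA (Subgroup.zpowers_le.2 hx)
    exact fun a ha b hb => (Subgroup.mem_centralizer_iff.1 (h1 ha) b hb).symm
  have := h.maximal K hKn le_sup_left hKc
  exact hw ((QuotientGroup.eq_one_iff x).2 (this ▸ hxK : (x : G) ∈ A))

/-- In dimension two the group acts on the section as a group of order three or six. -/
theorem range_cases {d m b : ℕ}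
    (hN : Nums q d m b s (Nat.card V) (Nat.card A) (Nat.card G) (Nat.card (Sec A B)))
    (hE : Nat.card (alg ρ A) = q ^ d) (hn : d * m = 2) :
    Nat.card (secAct : G →* MulAut (Sec A B)).range = 3 ∨
      Nat.card (secAct : G →* MulAut (Sec A B)).range = 6 := by
  obtain ⟨hd, -, -, -, hW⟩ := h.two_dim hN hn
  have hC := h.centralizer_eq_top hd hE
  set U := (secAct : G →* MulAut (Sec A B)).range
  have h6 : Nat.card U ∣ 6 := card_mulAut_dvd_six (ρ := ρ) h hW U
  have hle := Nat.le_of_dvd (by norm_num) h6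
  have hpos : 0 < Nat.card U := Nat.card_pos
  by_contra hne
  push Not at hne
  have h2 : Nat.card U = 1 ∨ Nat.card U = 2 := by
    interval_cases hu : Nat.card U <;> norm_num at h6 <;> omega
  have hp : IsPGroup 2 U := by
    rcases h2 with e | e
    · exact IsPGroup.of_card (n := 0) (by rw [e]; rfl)
    · exact IsPGroup.of_card (n := 1) (by rw [e]; rfl)
  have := Fact.mk Nat.prime_two
  let act : MulAction U (Sec A B) := MulAction.compHom _ U.subtype
  have hm := hp.card_modEq_card_fixedPoints (Sec A B)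
  rw [hW] at hm
  have hone : (1 : Sec A B) ∈ MulAction.fixedPoints U (Sec A B) := fun u => map_one (u : MulAut (Sec A B))
  have hsub : MulAction.fixedPoints U (Sec A B) ⊆ {1} := fun w hw =>
    h.secAct_moves hC hW fun g => hw ⟨secAct g, g, rfl⟩
  have h1 : Nat.card (MulAction.fixedPoints U (Sec A B)) = 1 := by
    rw [Nat.card_coe_set_eq, show MulAction.fixedPoints U (Sec A B) = {1} from
      Set.Subset.antisymm hsub (Set.singleton_subset_iff.2 hone), Set.ncard_singleton]
  rw [h1] at hm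
  exact absurd hm (by decide)

/-- An action of order six gives a normal subgroup of index two. -/
theorem index_two_of_six {d m b : ℕ}
    (hu : Nat.card (secAct : G →* MulAut (Sec A B)).range = 6)
    (hN : Nums q d m b s (Nat.card V) (Nat.card A) (Nat.card G) (Nat.card (Sec A B))) :
    ∃ N : Subgroup G, N.Normal ∧ N.index = 2 := by
  have := Fact.mk Nat.prime_three
  obtain ⟨z, hz⟩ := exists_prime_orderOf_dvd_card' (G := (secAct : G →* MulAut (Sec A B)).range) 3
    (by rw [hu]; norm_num)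
  have hidx : (Subgroup.zpowers z).index = 2 := by
    have h1 := (Subgroup.zpowers z).card_mul_index
    rw [Nat.card_zpowers, hz, hu] at h1
    omega
  have := Subgroup.normal_of_index_eq_two hidx
  exact ⟨(Subgroup.zpowers z).comap (secAct : G →* MulAut (Sec A B)).rangeRestrict, inferInstance,
    by rw [Subgroup.index_comap_of_surjective _ (MonoidHom.rangeRestrict_surjective _), hidx]⟩

/-- Regularity leaves no four-dimensional exception. -/
theorem false_of_81 (hinj : Function.Injective ρ)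
    (hreg : ∀ v : V, v ≠ 0 → ∀ g : G, ρ g v = v → g = 1) (hV : Nat.card V = 81) : False := by
  obtain ⟨d, m, b, hN, hE, hmE⟩ := h.exists_nums
  have hcG : Nat.card G = 80 := by rw [card_of_regular h.trans hreg, hV]
  have hq := (Fact.out (p := q.Prime))
  have hdvd : q ∣ 3 ^ 4 := by
    rw [show (3 : ℕ) ^ 4 = 81 by norm_num, ← hV, hN.hV]
    refine dvd_pow_self q fun h0 => ?_
    have := hN.hV
    rw [h0, pow_zero, hV] at this
    omega
  obtain rfl := (Nat.prime_dvd_prime_iff_eq hq Nat.prime_three).1 (hq.dvd_of_dvd_pow hdvd)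
  have hn : d * m = 4 := Nat.pow_right_injective (by norm_num : 2 ≤ 3) (hN.hV.symm.trans hV)
  have hs := h.prime.two_le
  have hsb : 2 ≤ s ^ b := le_trans hs (Nat.le_self_pow (by have := hN.hb; omega) s)
  have hm : 2 ≤ m := hsb.trans hN.hle
  have hr : IsPrimitivePrimeDivisor 5 3 (d * m) := by
    rw [hn]
    refine ⟨by norm_num, by norm_num, fun k hk hk4 => ?_⟩
    interval_cases k <;> norm_num
  have h5 := h.primitive_bound hN hE hr
  have hs2 : s = 2 := by
    have hdvd := hN.hs.trans hN.hA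
    have hd2 : d ≤ 2 := by nlinarith
    have hd1 := hN.hd
    interval_cases d
    · exact ((Nat.prime_dvd_prime_iff_eq h.prime Nat.prime_two).1 (by simpa using hdvd))
    · exact (Nat.prime_dvd_prime_iff_eq h.prime Nat.prime_two).1
        (h.prime.dvd_of_dvd_pow (n := 3) (by simpa using hdvd))
  subst hs2
  have hb : 2 ≤ b := by
    by_contra hb'
    have : 2 ^ b ≤ 2 ^ 1 := Nat.pow_le_pow_right two_pos (by omega)
    omega
  have hB : Nat.card B = Nat.card (Sec A B) * Nat.card A := by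
    rw [Subgroup.card_eq_card_quotient_mul_card_subgroup (A.subgroupOf B),
      Nat.card_congr (Subgroup.subgroupOfEquivOfLe h.lt.le).toEquiv]
  have h32 : 2 ^ 5 ∣ Nat.card B := by
    rw [hB, hN.hW, ← pow_mul]
    refine dvd_trans ?_ (mul_dvd_mul (Nat.pow_dvd_pow 2 (show 4 ≤ b * 2 by omega)) hN.hs)
    norm_num
  have := (h32.trans (Subgroup.card_subgroup_dvd_card B))
  rw [hcG] at this
  norm_num at this

/-- A section of order four acted on as a group of order three gives a rotated quaternion group. -/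
theorem exists_rotation (hinj : Function.Injective ρ)
    (hreg : ∀ v : V, v ≠ 0 → ∀ g : G, ρ g v = v → g = 1) (hC : Subgroup.centralizer (A : Set G) = ⊤)
    (hs : s = 2) (h4 : ¬ 4 ∣ Nat.card A) (hW : Nat.card (Sec A B) = 4)
    (hu : Nat.card (secAct : G →* MulAut (Sec A B)).range = 3) :
    ∃ a b y : G, ZStar.Q8Rotation a b y := by
  classical
  subst hs
  have hp := h.isPairing
  have := Fact.mk Nat.prime_two
  have := Fact.mk Nat.prime_three
  have hcen : ∀ (g : G), ∀ z ∈ A, z * g = g * z := fun g z hz =>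
    Subgroup.mem_centralizer_iff.1 (hC ▸ Subgroup.mem_top g) z hz
  -- an element of odd order inducing a rotation
  obtain ⟨⟨_, g, rfl⟩, hz3⟩ := exists_prime_orderOf_dvd_card'
    (G := (secAct : G →* MulAut (Sec A B)).range) 3 (by rw [hu])
  rw [← Subgroup.orderOf_coe] at hz3
  obtain ⟨e, o, ho, hgo⟩ := Nat.exists_eq_two_pow_mul_odd (orderOf_pos g).ne'
  set y := g ^ 2 ^ e with hy
  have hyo : Odd (orderOf y) := by
    rw [hy, orderOf_pow' g (pow_ne_zero _ two_ne_zero), hgo,
      Nat.gcd_eq_right (dvd_mul_right _ _), Nat.mul_div_cancel_left _ (by positivity)]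
    exact ho
  have hσ : orderOf (secAct y : MulAut (Sec A B)) = 3 := by
    rw [hy, map_pow, Nat.Coprime.orderOf_pow, hz3]
    rw [hz3]
    exact Nat.Coprime.pow_right e (by norm_num)
  set σ : MulAut (Sec A B) := secAct y with hσdef
  have hgen : ∀ k : G, ∃ i : ℤ, (secAct k : MulAut (Sec A B)) = σ ^ i := by
    intro k
    have hsub : Subgroup.zpowers σ = (secAct : G →* MulAut (Sec A B)).range := by
      refine Subgroup.eq_of_le_of_card_ge (Subgroup.zpowers_le.2 ⟨y, rfl⟩) ?_
      rw [hu, Nat.card_zpowers, hσ]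
    have hk : secAct k ∈ Subgroup.zpowers σ := hsub.symm ▸ ⟨k, rfl⟩
    obtain ⟨i, hi⟩ := hk
    exact ⟨i, hi.symm⟩
  have hfixall : ∀ w, σ w = w → w = 1 := fun w hw => h.secAct_moves hC hW fun k => by
    obtain ⟨i, hi⟩ := hgen k
    rw [hi]
    clear hi
    induction i with
    | zero => rfl
    | succ n ih => rw [zpow_add_one, MulAut.mul_apply, hw, ih]
    | pred n ih =>
      have hw' : σ⁻¹ w = w := by
        conv_lhs => rw [← hw]
        exact σ.symm_apply_apply w
      rw [zpow_sub_one, MulAut.mul_apply, hw', ih]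
  obtain ⟨w₁, hw₁⟩ : ∃ w : Sec A B, w ≠ 1 := by
    have : Nontrivial (Sec A B) := Finite.one_lt_card_iff_nontrivial.1 (by omega)
    exact exists_ne 1
  have hsq : ∀ w : Sec A B, w * w = 1 := fun w => by rw [← sq]; exact h.sec_pow w
  set w₂ := σ w₁ with hw₂
  have hne12 : w₂ ≠ w₁ := fun e => hw₁ (hfixall _ e)
  have hw₂1 : w₂ ≠ 1 := fun e => hw₁ (σ.injective (e.trans (map_one σ).symm))
  have hprod1 : w₁ * w₂ ≠ 1 := fun e => hne12 (mul_left_cancel (e.trans (hsq w₁).symm))
  have hprod2 : w₁ * w₂ ≠ w₁ := fun e => hw₂1 (mul_eq_left.1 e)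
  have hprod3 : w₁ * w₂ ≠ w₂ := fun e => hw₁ (mul_eq_right.1 e)
  have hall : ∀ w : Sec A B, w = 1 ∨ w = w₁ ∨ w = w₂ ∨ w = w₁ * w₂ := by
    intro w
    haveI := Fintype.ofFinite (Sec A B)
    have hcard : ({1, w₁, w₂, w₁ * w₂} : Finset (Sec A B)).card = 4 := by
      rw [Finset.card_insert_of_notMem, Finset.card_insert_of_notMem, Finset.card_insert_of_notMem,
        Finset.card_singleton]
      · simpa using Ne.symm hprod3
      · simp [Ne.symm hne12, hw₂1]
      · simp [Ne.symm hw₁, Ne.symm hw₂1, Ne.symm hprod1]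
    have huniv := Finset.eq_univ_of_card ({1, w₁, w₂, w₁ * w₂} : Finset (Sec A B))
      (by rw [hcard, ← Nat.card_eq_fintype_card, hW])
    have := huniv ▸ Finset.mem_univ w
    simpa using this
  have hw₃ : σ w₂ = w₁ * w₂ := by
    rcases hall (σ w₂) with e | e | e | e
    · exact absurd (σ.injective (e.trans (map_one σ).symm)) hw₂1
    · exfalso
      have h3 : (σ ^ 3) w₁ = σ (σ (σ w₁)) := rfl
      have hone : σ ^ 3 = 1 := hσ ▸ pow_orderOf_eq_one σ
      rw [hone, MulAut.one_apply, ← hw₂, e] at h3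
      exact hne12 h3.symm
    · exact absurd (hfixall _ e) hw₂1
    · exact e
  have hpair : h.pair w₁ w₂ ≠ 1 := fun e => hw₁ (hp.nondeg _ fun v => by
    rcases hall v with rfl | rfl | rfl | rfl
    · exact map_one (hp.right w₁)
    · exact hp.self _
    · exact e
    · rw [hp.map_mul_right, hp.self, e, one_mul])
  -- a representative which is a `2`-element
  obtain ⟨x, hx⟩ := QuotientGroup.mk_surjective w₁
  obtain ⟨e', o', ho', hxo⟩ := Nat.exists_eq_two_pow_mul_odd (orderOf_pos x).ne'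
  set a₀ : B := x ^ o' with ha₀def
  have ha₀w : (QuotientGroup.mk a₀ : Sec A B) = w₁ := by
    obtain ⟨k, hk⟩ := ho'
    rw [ha₀def, QuotientGroup.mk_pow, hx, hk, pow_succ, pow_mul, sq, hsq, one_pow, one_mul]
  have ha₀A : (a₀ : G) ∉ A := fun e => hw₁ (ha₀w ▸ (QuotientGroup.eq_one_iff a₀).2 e)
  have ha₀4 : (a₀ : G) ^ 4 = 1 := by
    have hA2 := h.pow_mem _ a₀.2
    have h2 : orderOf ((a₀ : G) ^ 2) ∣ 2 ^ e' := by
      refine orderOf_dvd_of_pow_eq_one ?_
      have : ((x : G) ^ o') ^ 2 ^ e' = 1 := by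
        rw [← pow_mul, mul_comm, ← hxo, ← Subgroup.orderOf_coe, pow_orderOf_eq_one]
      rw [← pow_mul, mul_comm, pow_mul, show (a₀ : G) = (x : G) ^ o' from rfl, this, one_pow]
    obtain ⟨k, -, hk⟩ := (Nat.dvd_prime_pow Nat.prime_two).1 h2
    have hkA : 2 ^ k ∣ Nat.card A := hk ▸ Subgroup.orderOf_dvd_natCard A hA2
    have hk1 : k ≤ 1 := by
      by_contra hk2
      exact h4 (dvd_trans (Nat.pow_dvd_pow 2 (show 2 ≤ k by omega)) hkA)
    rw [show 4 = 2 * 2 by norm_num, pow_mul]
    exact orderOf_dvd_iff_pow_eq_one.1 (hk ▸ (Nat.pow_dvd_pow 2 hk1))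
  -- the conjugates
  set b₀ : B := MulAut.conjNormal y a₀ with hb₀
  set c : B := MulAut.conjNormal y b₀ with hc
  have hb₀w : (QuotientGroup.mk b₀ : Sec A B) = w₂ := by rw [hw₂, ← ha₀w, hσdef, secAct_mk]
  have hcw : (QuotientGroup.mk c : Sec A B) = w₁ * w₂ := by rw [← hw₃, ← hb₀w, hσdef, secAct_mk]
  set z : G := (a₀ : G) ^ 2 with hz
  have hz1 : z ≠ 1 := by
    intro e
    -- an involution outside `A`
    obtain ⟨u, hu'⟩ := exists_prime_orderOf_dvd_card' (G := A) 2
      (h.exists_nums.elim fun _ hd => hd.elim fun _ hm => hm.elim fun _ hN => hN.1.hs)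
    rw [← Subgroup.orderOf_coe] at hu'
    have := eq_of_sq_eq_one hinj hreg (g := (a₀ : G)) (h := (u : G)) (by rw [← sq]; exact e)
      (by rw [← sq, ← hu', pow_orderOf_eq_one]) (fun e1 => ha₀A (e1 ▸ one_mem A))
      (fun e1 => by rw [e1, orderOf_one] at hu'; norm_num at hu')
    exact ha₀A (this ▸ u.2)
  have hzsq : z * z = 1 := by rw [hz, ← pow_add]; exact ha₀4
  have huniq : ∀ g : G, g * g = 1 → g ≠ 1 → g = z := fun g hg hg1 =>
    eq_of_sq_eq_one hinj hreg hg hzsq hg1 hz1
  have hzA : z ∈ A := h.pow_mem _ a₀.2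
  have hbcoe : (b₀ : G) = y * a₀ * y⁻¹ := rfl
  have hccoe : (c : G) = y * b₀ * y⁻¹ := rfl
  have hb2 : (b₀ : G) ^ 2 = z := by
    rw [hbcoe, conj_pow, ← hz, ← hcen y z hzA, mul_inv_cancel_right]
  have hc2 : (c : G) ^ 2 = z := by
    rw [hccoe, conj_pow, hb2, ← hcen y z hzA, mul_inv_cancel_right]
  have hcomm : ⁅(b₀ : G), (a₀ : G)⁆ = z := by
    have h1 : h.pair w₂ w₁ ≠ 1 := fun e => hpair (by rw [hp.swap w₂ w₁, e, inv_one])
    refine huniq _ ?_ fun e => h1 ?_
    · have := congrArg Subtype.val (hp.pow_value w₂ w₁)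
      rw [SubmonoidClass.coe_pow, OneMemClass.coe_one, ← hb₀w, ← ha₀w, h.pair_mk, sq] at this
      exact this
    · refine Subtype.ext ?_
      rw [← hb₀w, ← ha₀w, h.pair_mk, OneMemClass.coe_one]
      exact e
  set t : G := ((a₀ : G) * b₀)⁻¹ * c with ht
  have htA : t ∈ A := by
    have h1 : (QuotientGroup.mk (a₀ * b₀) : Sec A B) = QuotientGroup.mk c := by
      rw [QuotientGroup.mk_mul, ha₀w, hb₀w, hcw]
    exact Subgroup.mem_subgroupOf.1 (QuotientGroup.eq.1 h1)
  have hab2 : ((a₀ : G) * b₀) * (a₀ * b₀) = z := by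
    have e1 : (a₀ : G) * b₀ * (a₀ * b₀) = a₀ * (⁅(b₀ : G), (a₀ : G)⁆ * a₀) * (b₀ * b₀) := by
      rw [commutatorElement_def]; group
    rw [e1, hcomm, hcen (a₀ : G) z hzA, ← mul_assoc (a₀ : G), ← sq (b₀ : G), hb2, ← sq, ← hz,
      hzsq, one_mul]
  have htt : t * t = 1 := by
    have e1 : (c : G) = a₀ * b₀ * t := by rw [ht, mul_inv_cancel_left]
    have h1 : (c : G) * c = z := by rw [← sq]; exact hc2
    rw [e1, show ((a₀ : G) * b₀ * t) * (a₀ * b₀ * t) = (a₀ * b₀) * (t * (a₀ * b₀)) * t by group,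
      hcen _ t htA, ← mul_assoc ((a₀ : G) * b₀), hab2, mul_assoc] at h1
    exact mul_eq_left.1 h1
  have hsqt : ∀ g : G, g * t * (g * t) = g * g := fun g => by
    rw [mul_assoc, ← mul_assoc t, hcen g t htA, mul_assoc g t t, htt, mul_one]
  refine ⟨(a₀ : G) * t, (b₀ : G) * t, y, ⟨?_, ?_, ?_, ?_, ?_, ?_, hyo⟩⟩
  · rw [hsqt, ← sq, ← hz]; exact hz1
  · rw [hsqt, ← sq (a₀ : G), ← hz, hzsq]
  · rw [hsqt, hsqt, ← sq, hb2, ← sq]
  · have e1 : (b₀ : G) * t * (a₀ * t) * ((b₀ : G) * t)⁻¹ = (b₀ : G) * (t * (a₀ * t) * t⁻¹) * (b₀ : G)⁻¹ := by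
      group
    rw [e1, hcen _ t htA, mul_inv_cancel_right]
    have e2 : (b₀ : G) * (a₀ * t) * (b₀ : G)⁻¹ = ⁅(b₀ : G), (a₀ : G)⁆ * a₀ * ((b₀ : G) * t * (b₀ : G)⁻¹) := by
      rw [commutatorElement_def]; group
    rw [e2, hcomm, ← hcen (b₀ : G) t htA, mul_inv_cancel_right, eq_inv_iff_mul_eq_one,
      mul_assoc (z * (a₀ : G)) t, ← mul_assoc t (a₀ : G), hcen (a₀ : G) t htA, mul_assoc (a₀ : G) t t,
      htt, mul_one, mul_assoc, ← sq, ← hz, hzsq]
  · rw [show y * ((a₀ : G) * t) * y⁻¹ = (y * a₀ * y⁻¹) * (y * t * y⁻¹) by group,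
      ← hcen y t htA, mul_inv_cancel_right, hbcoe]
  · rw [show y * ((b₀ : G) * t) * y⁻¹ = (y * b₀ * y⁻¹) * (y * t * y⁻¹) by group,
      ← hcen y t htA, mul_inv_cancel_right, ← hccoe,
      show (c : G) = a₀ * b₀ * t by rw [ht, mul_inv_cancel_left]]
    rw [mul_assoc ((a₀ : G) * b₀), htt, mul_one, mul_assoc (a₀ : G) t, ← mul_assoc t (b₀ : G),
      hcen (b₀ : G) t htA, mul_assoc (b₀ : G) t t, htt, mul_one]

end Ctx

end Cfsg.Agent.Huppert69
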