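import Cfsg.Agent.Huppert69.Regular

/-!
The two exceptions: `SL(2,3)` and its product with a group of order five.
-/

namespace Cfsg.Agent.Huppert69

open scoped commutatorElement IsMulCommutative

variable {G : Type*} [Group G] [Finite G]

theorem card_sl23 : Nat.card (Matrix.SpecialLinearGroup (Fin 2) (ZMod 3)) = 24 := by
  rw [Nat.card_eq_fintype_card]
  decide +kernel

/-- A group of order 24 with a rotated quaternion group is `SL(2,3)`. -/
theorem equiv_sl23 (hG : Nat.card G = 24) {a b y : G} (h : ZStar.Q8Rotation a b y) :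
    Nonempty (G ≃* Matrix.SpecialLinearGroup (Fin 2) (ZMod 3)) := by
  obtain ⟨H, K, hK, ⟨e⟩⟩ := ZStar.exists_sl23_section h
  haveI := hK
  have h1 := Subgroup.card_eq_card_quotient_mul_card_subgroup (K.subgroupOf H)
  rw [Nat.card_congr e.toEquiv, card_sl23] at h1
  have h2 := Nat.le_of_dvd (by norm_num) (hG ▸ Subgroup.card_subgroup_dvd_card H)
  have hpos : 0 < Nat.card (K.subgroupOf H) := Nat.card_pos
  have hH : H = ⊤ := Subgroup.eq_top_of_card_eq _ (by rw [hG]; nlinarith)
  have hKb : K.subgroupOf H = ⊥ := Subgroup.card_eq_one.1 (by nlinarith)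
  have hinj : Function.Injective (QuotientGroup.mk' (K.subgroupOf H)) := by
    rw [← MonoidHom.ker_eq_bot_iff, QuotientGroup.ker_mk', hKb]
  have e1 := MulEquiv.ofBijective _ ⟨hinj, QuotientGroup.mk'_surjective (K.subgroupOf H)⟩
  exact ⟨((Subgroup.topEquiv.symm.trans (MulEquiv.subgroupCongr hH.symm)).trans e1).trans e⟩

/-- A group of order 120 with a rotated quaternion group and a central element of order five
is `SL(2,3)` times the group of order five. -/
theorem equiv_sl23_prod (hG : Nat.card G = 120) {a b y : G} (h : ZStar.Q8Rotation a b y)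
    {A : Subgroup G} (hA : Nat.card A = 10) (hcen : A ≤ Subgroup.center G) :
    Nonempty (G ≃* Matrix.SpecialLinearGroup (Fin 2) (ZMod 3) × Multiplicative (ZMod 5)) := by
  classical
  have := Fact.mk (show Nat.Prime 5 by norm_num)
  obtain ⟨⟨c, hcA⟩, hc⟩ := exists_prime_orderOf_dvd_card' (G := A) 5 (by rw [hA]; norm_num)
  rw [← Subgroup.orderOf_coe] at hc
  set C := Subgroup.zpowers c with hCdef
  have hCc : C ≤ Subgroup.center G := Subgroup.zpowers_le.2 (hcen hcA)
  haveI : C.Normal := ⟨fun z hz g => by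
    rw [Subgroup.mem_center_iff.1 (hCc hz) g, mul_inv_cancel_right]
    exact hz⟩
  have hC5 : Nat.card C = 5 := (Nat.card_zpowers c).trans hc
  have hQ : Nat.card (G ⧸ C) = 24 := by
    have h1 := Subgroup.card_eq_card_quotient_mul_card_subgroup C
    rw [hG, hC5] at h1
    omega
  have hrot : ZStar.Q8Rotation (QuotientGroup.mk' C a) (QuotientGroup.mk' C b)
      (QuotientGroup.mk' C y) := by
    refine ⟨fun e => ?_, ?_, ?_, ?_, ?_, ?_, ?_⟩
    · rw [← map_mul, QuotientGroup.mk'_apply, QuotientGroup.eq_one_iff] at e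
      have h5 : orderOf (a * a) ∣ 5 := hC5 ▸ Subgroup.orderOf_dvd_natCard C e
      have h2 : orderOf (a * a) ∣ 2 :=
        orderOf_dvd_of_pow_eq_one (by rw [sq]; exact h.pow_four)
      exact h.sq_ne (orderOf_eq_one_iff.1
        (Nat.eq_one_of_dvd_coprimes (show Nat.Coprime 5 2 by norm_num) h5 h2))
    · simp only [← map_mul]
      rw [h.pow_four, map_one]
    · simp only [← map_mul]
      rw [h.sq_eq]
    · simp only [← map_mul, ← map_inv]
      rw [h.inverts]
    · simp only [← map_mul, ← map_inv]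
      rw [h.conj_a]
    · simp only [← map_mul, ← map_inv]
      rw [h.conj_b]
    · exact h.odd.of_dvd_nat (orderOf_map_dvd _ y)
  obtain ⟨e₁⟩ := equiv_sl23 hQ hrot
  have hk : (Subgroup.center G).index ∣ 24 := by
    have h1 := A.card_mul_index
    rw [hA, hG] at h1
    exact (Subgroup.index_dvd_of_le hcen).trans ⟨2, by omega⟩
  obtain ⟨j, hj⟩ := hk
  set f : G →* G := (Subgroup.center G).subtype.comp
    ((powMonoidHom j).comp (MonoidHom.transferCenterPow G)) with hf
  have hf24 : ∀ g, f g = g ^ 24 := fun g => by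
    show (((MonoidHom.transferCenterPow G g) ^ j : Subgroup.center G) : G) = _
    rw [SubgroupClass.coe_pow, MonoidHom.transferCenterPow_apply, ← pow_mul, ← hj]
  have hmem : ∀ g, f g ∈ C := fun g => by
    rw [hf24, ← QuotientGroup.eq_one_iff, QuotientGroup.mk_pow, ← hQ, pow_card_eq_one']
  set φ : G →* (G ⧸ C) × C := (QuotientGroup.mk' C).prod (f.codRestrict C hmem) with hφ
  have hinj : Function.Injective φ := by
    rw [injective_iff_map_eq_one]
    intro g hg
    obtain ⟨h1, h2⟩ := Prod.ext_iff.1 hg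
    have hgC : g ∈ C := (QuotientGroup.eq_one_iff g).1 h1
    have h24 : g ^ 24 = 1 := by rw [← hf24]; exact congrArg Subtype.val h2
    exact orderOf_eq_one_iff.1 (Nat.eq_one_of_dvd_coprimes (show Nat.Coprime 5 24 by norm_num)
      (hC5 ▸ Subgroup.orderOf_dvd_natCard C hgC) (orderOf_dvd_of_pow_eq_one h24))
  have hbij : Function.Bijective φ := (Nat.bijective_iff_injective_and_card φ).2
    ⟨hinj, by rw [Nat.card_prod, hQ, hC5, hG]⟩
  have e₂ : C ≃* Multiplicative (ZMod 5) := mulEquivOfCyclicCardEq (by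
    rw [hC5, Nat.card_congr Multiplicative.toAdd, Nat.card_zmod])
  exact ⟨(MulEquiv.ofBijective φ hbij).trans (e₁.prodCongr e₂)⟩

end Cfsg.Agent.Huppert69
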