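import Cfsg.Agent.Huppert69.Ctx

/-!
The section `B / A`: its pairing, the conjugation action, and the span of its representatives.
-/

namespace Cfsg.Agent.Huppert69

open scoped commutatorElement IsMulCommutative

variable {q : ℕ} [Fact q.Prime] {V : Type*} [AddCommGroup V] [Module (ZMod q) V] [Finite V]
variable {G : Type*} [Group G] [Finite G]
variable {ρ : G →* (V ≃ₗ[ZMod q] V)} {A B : Subgroup G} {s : ℕ} [A.Normal]

/-- The section. -/
abbrev Sec (A B : Subgroup G) : Type _ := ↥B ⧸ A.subgroupOf B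

namespace Ctx

variable (h : Ctx ρ A B s)
include h

theorem commutator_shift {x a y : G} (hy : y ∈ B) (ha : a ∈ A) : ⁅x * a, y⁆ = ⁅x, y⁆ := by
  have e : a * y * a⁻¹ = y := by rw [h.commute_A ha hy, mul_inv_cancel_right]
  calc ⁅x * a, y⁆ = x * (a * y * a⁻¹) * x⁻¹ * y⁻¹ := by rw [commutatorElement_def]; group
    _ = ⁅x, y⁆ := by rw [e, commutatorElement_def]

theorem commutator_mul {x y k : G} (hx : x ∈ B) (hc : ⁅y, k⁆ ∈ A) :
    ⁅x * y, k⁆ = ⁅x, k⁆ * ⁅y, k⁆ ∨ ⁅x, k⁆ ∉ A := by
  by_cases hxk : ⁅x, k⁆ ∈ A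
  · left
    have e : x * ⁅y, k⁆ * x⁻¹ = ⁅y, k⁆ := by rw [← h.commute_A hc hx, mul_inv_cancel_right]
    calc ⁅x * y, k⁆ = x * ⁅y, k⁆ * x⁻¹ * ⁅x, k⁆ := by simp only [commutatorElement_def]; group
      _ = ⁅y, k⁆ * ⁅x, k⁆ := by rw [e]
      _ = _ := h.comm _ hc _ hxk
  · exact Or.inr hxk

/-- The commutator pairing on the section. -/
noncomputable def pair (u v : Sec A B) : A :=
  ⟨⁅(u.out : G), (v.out : G)⁆, h.commutator_mem _ u.out.2 _ v.out.2⟩

theorem pair_mk (x y : B) : (h.pair (QuotientGroup.mk x) (QuotientGroup.mk y) : G) = ⁅(x : G), (y : G)⁆ := by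
  obtain ⟨a, ha⟩ := QuotientGroup.mk_out_eq_mul (A.subgroupOf B) x
  obtain ⟨a', ha'⟩ := QuotientGroup.mk_out_eq_mul (A.subgroupOf B) y
  show ⁅((QuotientGroup.mk x : Sec A B).out : G), ((QuotientGroup.mk y : Sec A B).out : G)⁆ = _
  rw [ha, ha', Subgroup.coe_mul, Subgroup.coe_mul]
  rw [h.commutator_shift (mul_mem y.2 (h.lt.le (Subgroup.mem_subgroupOf.1 a'.2))) (Subgroup.mem_subgroupOf.1 a.2)]
  rw [← commutatorElement_inv, h.commutator_shift x.2 (Subgroup.mem_subgroupOf.1 a'.2),
    commutatorElement_inv]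

variable [IsMulCommutative A] [IsMulCommutative (Sec A B)]

theorem pair_mul_left (u v w : Sec A B) : h.pair (u * v) w = h.pair u w * h.pair v w := by
  obtain ⟨x, rfl⟩ := QuotientGroup.mk_surjective u
  obtain ⟨y, rfl⟩ := QuotientGroup.mk_surjective v
  obtain ⟨z, rfl⟩ := QuotientGroup.mk_surjective w
  apply Subtype.ext
  rw [Subgroup.coe_mul, ← QuotientGroup.mk_mul, h.pair_mk, h.pair_mk, h.pair_mk, Subgroup.coe_mul]
  exact (h.commutator_mul x.2 (h.commutator_mem _ y.2 _ z.2)).resolve_right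
    fun e => e (h.commutator_mem _ x.2 _ z.2)

theorem pair_self (u : Sec A B) : h.pair u u = 1 := Subtype.ext (by
  show ⁅(u.out : G), (u.out : G)⁆ = 1
  exact commutatorElement_self _)

theorem pair_swap (u v : Sec A B) : h.pair v u = (h.pair u v)⁻¹ := Subtype.ext (by
  show ⁅(v.out : G), (u.out : G)⁆ = ⁅(u.out : G), (v.out : G)⁆⁻¹
  exact (commutatorElement_inv _ _).symm)

theorem sec_pow (w : Sec A B) : w ^ s = 1 := by
  obtain ⟨x, rfl⟩ := QuotientGroup.mk_surjective w
  rw [← QuotientGroup.mk_pow, QuotientGroup.eq_one_iff, Subgroup.mem_subgroupOf]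
  exact h.pow_mem _ x.2

theorem isCyclic_A [Nontrivial V] : IsCyclic A := by
  letI : Field (alg ρ A) := (isField_alg h.toSetting).toField
  refine isCyclic_of_injective_ringHom
    ({ toFun := fun a : A => (⟨lin ρ (a : G), lin_mem_alg a.2⟩ : alg ρ A)
       map_one' := Subtype.ext (map_one (lin ρ))
       map_mul' := fun a b => Subtype.ext (map_mul (lin ρ) (a : G) b) } : A →* alg ρ A) fun a b e =>
    Subtype.ext (lin_injective h.toSetting (congrArg Subtype.val e))

theorem isPairing [Nontrivial V] : IsPairing s h.pair := by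
  classical
  have hs : Fact s.Prime := ⟨h.prime⟩
  have hpow : ∀ u v, h.pair u v ^ s = 1 := by
    intro u v
    let f : Sec A B →* A := MonoidHom.mk' (fun w => h.pair w v) fun a b => h.pair_mul_left a b v
    show f u ^ s = 1
    rw [← map_pow, h.sec_pow, map_one]
  refine ⟨h.sec_pow, h.pair_mul_left, fun u v w => ?_, h.pair_self, fun u v w z huv => ?_,
    fun u hu => ?_⟩
  · rw [h.pair_swap (v * w) u, h.pair_swap v u, h.pair_swap w u, h.pair_mul_left, mul_inv]
  · have := h.isCyclic_A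
    have : Fintype A := Fintype.ofFinite A
    have hord : orderOf (h.pair u v) = s := orderOf_eq_prime (hpow u v) huv
    have hsub : (Finset.univ.filter fun a : A => a ∈ Subgroup.zpowers (h.pair u v)) =
        Finset.univ.filter fun a : A => a ^ s = 1 := by
      refine Finset.eq_of_subset_of_card_le (fun a ha => ?_) ?_
      · simp only [Finset.mem_filter, Finset.mem_univ, true_and] at ha ⊢
        obtain ⟨i, rfl⟩ := ha
        rw [← zpow_natCast, ← zpow_mul, mul_comm, zpow_mul, zpow_natCast, hpow, one_zpow]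
      · refine (IsCyclic.card_pow_eq_one_le h.prime.pos).trans (le_of_eq ?_)
        rw [← Fintype.card_subtype, ← Nat.card_eq_fintype_card]
        exact (hord.symm.trans (Nat.card_zpowers _).symm)
    have hmem : h.pair w z ∈ Subgroup.zpowers (h.pair u v) := by
      have := Finset.ext_iff.1 hsub (h.pair w z)
      simp only [Finset.mem_filter, Finset.mem_univ, true_and] at this
      exact this.2 (hpow w z)
    obtain ⟨i, hi⟩ := (mem_powers_iff_mem_zpowers.2 hmem)
    exact ⟨i, hi.symm⟩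
  · obtain ⟨x, rfl⟩ := QuotientGroup.mk_surjective u
    rw [QuotientGroup.eq_one_iff, Subgroup.mem_subgroupOf]
    refine h.mem_of_commute x.2 fun y hy => ?_
    have := congrArg Subtype.val (hu (QuotientGroup.mk (⟨y, hy⟩ : B)))
    rw [h.pair_mk, OneMemClass.coe_one] at this
    exact commutatorElement_eq_one_iff_mul_comm.1 this

end Ctx

section Action

variable [B.Normal]

/-- Conjugation on the section. -/
def secConj (g : G) : Sec A B →* Sec A B :=
  QuotientGroup.map _ _ (MulAut.conjNormal g : MulAut B).toMonoidHom fun x hx => by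
    rw [Subgroup.mem_comap, Subgroup.mem_subgroupOf]
    show g * (x : G) * g⁻¹ ∈ A
    exact Subgroup.Normal.conj_mem ‹A.Normal› _ (Subgroup.mem_subgroupOf.1 hx) g

theorem secConj_mk (g : G) (x : B) :
    secConj g (QuotientGroup.mk x : Sec A B) = QuotientGroup.mk (MulAut.conjNormal g x) := rfl

theorem secConj_mul (g k : G) (w : Sec A B) : secConj (g * k) w = secConj g (secConj k w) := by
  obtain ⟨x, rfl⟩ := QuotientGroup.mk_surjective w
  rw [secConj_mk, secConj_mk, secConj_mk, map_mul]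
  rfl

theorem secConj_one (w : Sec A B) : secConj 1 w = w := by
  obtain ⟨x, rfl⟩ := QuotientGroup.mk_surjective w
  rw [secConj_mk, map_one]
  rfl

/-- The action on the section. -/
def secAct : G →* MulAut (Sec A B) :=
  MonoidHom.mk' (fun g =>
    { secConj g with
      invFun := secConj g⁻¹
      left_inv := fun w => by
        show secConj g⁻¹ (secConj g w) = w
        rw [← secConj_mul, inv_mul_cancel, secConj_one]
      right_inv := fun w => by
        show secConj g (secConj g⁻¹ w) = w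
        rw [← secConj_mul, mul_inv_cancel, secConj_one] })
    fun g k => MulEquiv.ext fun w => secConj_mul g k w

theorem secAct_mk (g : G) (x : B) :
    secAct g (QuotientGroup.mk x : Sec A B) = QuotientGroup.mk (MulAut.conjNormal g x) := rfl

theorem secAct_eq_one_iff (g : G) :
    (secAct g : MulAut (Sec A B)) = 1 ↔ ∀ x ∈ B, ⁅x, g⁆ ∈ A := by
  constructor
  · intro hg x hx
    have := MulEquiv.ext_iff.1 hg (QuotientGroup.mk (⟨x, hx⟩ : B))
    rw [secAct_mk, MulAut.one_apply, QuotientGroup.eq, Subgroup.mem_subgroupOf] at this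
    have h2 : g * x⁻¹ * g⁻¹ * x ∈ A := by
      have h3 : (g * x * g⁻¹)⁻¹ * x ∈ A := this
      simpa [mul_inv_rev, mul_assoc] using h3
    have := Subgroup.Normal.conj_mem ‹A.Normal› _ h2 x
    have e2 : x * (g * x⁻¹ * g⁻¹ * x) * x⁻¹ = ⁅x, g⁆ := by rw [commutatorElement_def]; group
    rwa [e2] at this
  · intro hg
    refine MulEquiv.ext fun w => ?_
    obtain ⟨⟨x, hx⟩, rfl⟩ := QuotientGroup.mk_surjective w
    rw [secAct_mk, MulAut.one_apply, QuotientGroup.eq, Subgroup.mem_subgroupOf]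
    show (g * x * g⁻¹)⁻¹ * x ∈ A
    have e2 : x⁻¹ * ⁅x, g⁆ * x⁻¹⁻¹ = (g * x * g⁻¹)⁻¹ * x := by rw [commutatorElement_def]; group
    rw [← e2]
    exact Subgroup.Normal.conj_mem ‹A.Normal› _ (hg x hx) x⁻¹

end Action

namespace Ctx

variable (h : Ctx ρ A B s) [B.Normal]
include h

theorem pair_secAct {g : G} (hg : g ∈ Subgroup.centralizer (A : Set G)) (u v : Sec A B) :
    h.pair (secAct g u) (secAct g v) = h.pair u v := by
  obtain ⟨x, rfl⟩ := QuotientGroup.mk_surjective u
  obtain ⟨y, rfl⟩ := QuotientGroup.mk_surjective v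
  apply Subtype.ext
  rw [secAct_mk, secAct_mk, h.pair_mk, h.pair_mk]
  show ⁅g * (x : G) * g⁻¹, g * (y : G) * g⁻¹⁆ = ⁅(x : G), (y : G)⁆
  rw [← conjugate_commutatorElement]
  rw [← (Subgroup.mem_centralizer_iff.1 hg) _ (h.commutator_mem _ x.2 _ y.2), mul_inv_cancel_right]

end Ctx

end Cfsg.Agent.Huppert69
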